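import Cfsg.Agent.EqLemmas
import Cfsg.Agent.S0501
import Cfsg.Agent.Lib.PGroup.Basic

/-!
# 2-groups of normal rank at most two with an automorphism of odd prime power order (helper73)

For S3311. `P` is a finite 2-group all of whose normal elementary abelian subgroups have order at
most four, `θ` an automorphism of order a power of an odd prime `p`, and `Z` is maximal among the
`θ`-invariant normal abelian subgroups.

* `card_modEq_fixed`, `exists_fixed_coset`, `fixed_of_twist`: coprime action of `⟨θ⟩`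
* `Tower.K`: the elements of `C(Z)` that are involutions or trivial in the centre of `P/Z`
* `Tower.mem_Z_of_central`, `Tower.mem_Z_of_comm`: `Z(K) = Z`, `C(K) ≤ Z`
* `Tower.sq_mul_ne`: anisotropy of squaring on `K/Z` when `Ω₁(Z)` has order four
* `Tower.cent_le_K`: `C(Z) = K` when `Ω₁(Z)` is central
* `Hyp.no_eight`: no normal four group is centralised by a further involution normal modulo it
* `Hyp.card_le_sixteen_mul`: sectional rank at most four
-/

set_option autoImplicit false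
set_option linter.style.haveILetI false
set_option linter.unusedSectionVars false

open Subgroup
open scoped commutatorElement

namespace Cfsg.Agent.NormalRankTwoOdd

variable {P : Type*} [Group P]

/-- A 2-group without normal elementary abelian subgroups of order eight. -/
structure Hyp (P : Type*) [Group P] : Prop where
  two : IsPGroup 2 P
  small : ∀ A : Subgroup P, A.Normal → (∀ a ∈ A, ∀ b ∈ A, a * b = b * a) →
    (∀ a ∈ A, a * a = 1) → Nat.card A ≤ 4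

/-- `θ` has order a power of the odd prime `p`. -/
structure OddAct (θ : MulAut P) (p : ℕ) : Prop where
  prime : p.Prime
  ne_two : p ≠ 2
  pow_eq : ∃ e : ℕ, θ ^ p ^ e = 1

theorem comm_mul (t a b : P) : ⁅t, a * b⁆ = ⁅t, a⁆ * (a * ⁅t, b⁆ * a⁻¹) := by
  simp only [commutatorElement_def]; group

theorem mul_comm_left (s t a : P) : ⁅s * t, a⁆ = s * ⁅t, a⁆ * s⁻¹ * ⁅s, a⁆ := by
  simp only [commutatorElement_def]; group

theorem commute_of_comm_eq_one {a b : P} (h : ⁅a, b⁆ = 1) : Commute a b :=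
  commutatorElement_eq_one_iff_mul_comm.1 h

theorem sq_of_comm {a b : P} (h : Commute a b) : (a * b) * (a * b) = (a * a) * (b * b) :=
  Commute.mul_mul_mul_comm h.symm a b

theorem inv_eq_of_sq {a : P} (h : a * a = 1) : a⁻¹ = a := inv_eq_of_mul_eq_one_right h

section Act

variable {θ : MulAut P} {p : ℕ}

theorem OddAct.odd_exp (hθ : OddAct θ p) : ∃ m : ℕ, θ ^ (2 * m + 1) = 1 := by
  obtain ⟨e, he⟩ := hθ.pow_eq
  obtain ⟨m, hm⟩ := (hθ.prime.odd_of_ne_two hθ.ne_two).pow (n := e)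
  exact ⟨m, hm ▸ he⟩

theorem pow_succ_apply (θ : MulAut P) (n : ℕ) (x : P) : (θ ^ (n + 1)) x = θ ((θ ^ n) x) := by
  rw [pow_succ']; rfl

theorem pow_mem_inv (θ : MulAut P) {S : Set P} (hS : ∀ x ∈ S, θ x ∈ S) {x : P} (hx : x ∈ S) :
    ∀ n : ℕ, (θ ^ n) x ∈ S
  | 0 => by simpa using hx
  | n + 1 => by rw [pow_succ_apply]; exact hS _ (pow_mem_inv θ hS hx n)

/-- If `θ² x ≡ x` then `θ x ≡ x` modulo an invariant normal subgroup. -/
theorem OddAct.mod_fixed (hθ : OddAct θ p) (N : Subgroup P) [N.Normal] (hN : ∀ x ∈ N, θ x ∈ N) {x : P}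
    (h : x⁻¹ * θ (θ x) ∈ N) : x⁻¹ * θ x ∈ N := by
  obtain ⟨m, hm⟩ := hθ.odd_exp
  have key : ∀ j : ℕ, x⁻¹ * (θ ^ (2 * j)) x ∈ N := by
    intro j
    induction j with
    | zero => simp
    | succ j ih =>
      rw [show 2 * (j + 1) = 2 * j + 1 + 1 by ring, pow_succ_apply, pow_succ_apply]
      have h2 : θ (θ (x⁻¹ * (θ ^ (2 * j)) x)) ∈ N := hN _ (hN _ ih)
      have e : x⁻¹ * θ (θ ((θ ^ (2 * j)) x)) = (x⁻¹ * θ (θ x)) * θ (θ (x⁻¹ * (θ ^ (2 * j)) x)) := by
        rw [map_mul, map_mul, map_inv, map_inv]; group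
      rw [e]; exact mul_mem h h2
  have h2 : θ (x⁻¹ * (θ ^ (2 * m)) x) ∈ N := hN _ (key m)
  rw [map_mul, map_inv, ← pow_succ_apply, hm, MulAut.one_apply] at h2
  have h3 := inv_mem h2
  rwa [mul_inv_rev, inv_inv] at h3

/-- A twist by a fixed element of 2-power order is trivial. -/
theorem OddAct.fixed_of_twist (hθ : OddAct θ p) (h2 : IsPGroup 2 P) {k z : P} (hk : θ k = k * z)
    (hz : θ z = z) : θ k = k := by
  obtain ⟨m, hm⟩ := hθ.odd_exp
  have key : ∀ n : ℕ, (θ ^ n) k = k * z ^ n := by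
    intro n
    induction n with
    | zero => simp
    | succ n ih => rw [pow_succ_apply, ih, map_mul, map_pow, hk, hz, mul_assoc, ← pow_succ']
  have h1 := key (2 * m + 1)
  rw [hm, MulAut.one_apply, left_eq_mul] at h1
  obtain ⟨j, hj⟩ := h2 z
  have hd : orderOf z ∣ Nat.gcd (2 * m + 1) (2 ^ j) :=
    Nat.dvd_gcd (orderOf_dvd_of_pow_eq_one h1) (orderOf_dvd_of_pow_eq_one hj)
  have hc : Nat.gcd (2 * m + 1) (2 ^ j) = 1 :=
    Nat.Coprime.pow_right j ((Nat.coprime_two_right).2 (odd_two_mul_add_one m))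
  rw [hc, Nat.dvd_one, orderOf_eq_one_iff] at hd
  rw [hk, hd, mul_one]

variable [Finite P]

theorem OddAct.card_modEq_fixed (hθ : OddAct θ p) (S : Set P) (hS : ∀ x ∈ S, θ x ∈ S) :
    Nat.card S ≡ Nat.card {x : S // θ x = x} [MOD p] := by
  haveI := Fact.mk hθ.prime
  obtain ⟨e, he⟩ := hθ.pow_eq
  have hpg : IsPGroup p (zpowers θ) := by
    obtain ⟨k, -, hk⟩ := (Nat.dvd_prime_pow hθ.prime).1 (orderOf_dvd_of_pow_eq_one he)
    exact IsPGroup.of_card (n := k) (by rw [Nat.card_zpowers, hk])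
  have hmem : ∀ a : zpowers θ, ∀ x ∈ S, (a : MulAut P) x ∈ S := by
    rintro ⟨a, ha⟩ x hx
    obtain ⟨n, rfl⟩ := Submonoid.mem_powers_iff _ _ |>.1 (mem_powers_iff_mem_zpowers.2 ha)
    exact pow_mem_inv θ hS hx n
  letI : MulAction (zpowers θ) S :=
    { smul := fun a x => ⟨(a : MulAut P) x, hmem a x x.2⟩
      one_smul := fun x => Subtype.ext rfl
      mul_smul := fun a b x => Subtype.ext rfl }
  suffices he : Nat.card (MulAction.fixedPoints (zpowers θ) S) = Nat.card {x : S // θ x = x} from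
    he ▸ hpg.card_modEq_card_fixedPoints S
  refine Nat.card_congr (Equiv.subtypeEquivRight fun x => ⟨fun h => ?_, fun h a => ?_⟩)
  · exact congrArg Subtype.val (h ⟨θ, mem_zpowers θ⟩)
  · obtain ⟨a, ha⟩ := a
    obtain ⟨n, rfl⟩ := Submonoid.mem_powers_iff _ _ |>.1 (mem_powers_iff_mem_zpowers.2 ha)
    refine Subtype.ext ?_
    show (θ ^ n) (x : P) = x
    exact pow_mem_inv θ (S := {(x : P)}) (fun y hy => by rw [Set.mem_singleton_iff] at hy ⊢; rw [hy, h]) rfl n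

theorem OddAct.exists_fixed (hθ : OddAct θ p) (S : Set P) (hS : ∀ x ∈ S, θ x ∈ S)
    (hcard : ¬ p ∣ Nat.card S) : ∃ x ∈ S, θ x = x := by
  by_contra hne
  push Not at hne
  haveI : IsEmpty {x : S // θ x = x} := ⟨fun x => hne x.1 x.1.2 x.2⟩
  have h := hθ.card_modEq_fixed S hS
  rw [Nat.card_of_isEmpty (α := {x : S // θ x = x})] at h
  exact hcard (Nat.modEq_zero_iff_dvd.1 h)

theorem OddAct.not_dvd_two_pow (hθ : OddAct θ p) (k : ℕ) : ¬ p ∣ 2 ^ k := fun h =>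
  hθ.ne_two ((Nat.prime_dvd_prime_iff_eq hθ.prime Nat.prime_two).1 (hθ.prime.dvd_of_dvd_pow h))

/-- An invariant coset of an invariant subgroup contains a fixed element. -/
theorem OddAct.exists_fixed_coset (hθ : OddAct θ p) (h2 : IsPGroup 2 P) (N : Subgroup P)
    (hN : ∀ x ∈ N, θ x ∈ N) {g : P} (hg : g⁻¹ * θ g ∈ N) : ∃ n ∈ N, θ (g * n) = g * n := by
  haveI : Fact (Nat.Prime 2) := ⟨Nat.prime_two⟩
  obtain ⟨k, hk⟩ := IsPGroup.iff_card.1 (h2.to_subgroup N)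
  obtain ⟨x, ⟨n, hn, rfl⟩, hx⟩ := hθ.exists_fixed ((fun n => g * n) '' (N : Set P)) (by
      rintro _ ⟨n, hn, rfl⟩
      exact ⟨g⁻¹ * θ g * θ n, mul_mem hg (hN n hn), by simp [mul_assoc]⟩)
    (by
      rw [Nat.card_image_of_injective (mul_right_injective g)]
      show ¬ p ∣ Nat.card N
      rw [hk]; exact hθ.not_dvd_two_pow k)
  exact ⟨n, hn, hx⟩

end Act

variable [Finite P]

/-- Sectional rank at most four. -/
theorem Hyp.card_le_sixteen_mul (hP : Hyp P) (H N : Subgroup P) (hNH : N ≤ H)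
    (hsq : ∀ x ∈ H, x * x ∈ N) : Nat.card H ≤ 16 * Nat.card N := by
  have hS := S0501.result hP.two fun A hA hc h2 =>
    hP.small A hA (fun a ha b hb => congrArg Subtype.val (hc.is_comm.comm ⟨a, ha⟩ ⟨b, hb⟩))
      (fun a ha => by rw [← pow_two]; exact h2 a ha)
  have hcom : ∀ a ∈ H, ∀ b ∈ H, ⁅a, b⁆ ∈ N := fun a ha b hb =>
    Sectional.commutator_mem_of_sq (fun x hx => by rw [pow_two]; exact hsq x hx) ha hb
  haveI : (N.subgroupOf H).Normal := ⟨fun x hx g => by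
    rw [mem_subgroupOf] at hx ⊢
    have := mul_mem (hcom g g.2 x (hNH hx)) hx
    simpa [commutatorElement_def, mul_assoc] using this⟩
  have hab : IsMulCommutative (⊤ : Subgroup (↥H ⧸ N.subgroupOf H)) := ⟨⟨fun x y => Subtype.ext (by
    obtain ⟨a, ha⟩ := QuotientGroup.mk_surjective (x : ↥H ⧸ N.subgroupOf H)
    obtain ⟨b, hb⟩ := QuotientGroup.mk_surjective (y : ↥H ⧸ N.subgroupOf H)
    show (x : ↥H ⧸ N.subgroupOf H) * y = y * x
    rw [← ha, ← hb]
    apply commutatorElement_eq_one_iff_mul_comm.1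
    rw [commutatorElement_def, ← QuotientGroup.mk_inv, ← QuotientGroup.mk_inv, ← QuotientGroup.mk_mul,
      ← QuotientGroup.mk_mul, ← QuotientGroup.mk_mul]
    exact (QuotientGroup.eq_one_iff _).2 (mem_subgroupOf.2 (hcom a a.2 b b.2)))⟩⟩
  have h := hS H (N.subgroupOf H) ⊤ hab fun x _ => by
    obtain ⟨a, rfl⟩ := QuotientGroup.mk_surjective x
    rw [← QuotientGroup.mk_pow]
    exact (QuotientGroup.eq_one_iff _).2 (mem_subgroupOf.2 (by rw [pow_two]; exact hsq a a.2))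
  rw [card_top] at h
  rw [← card_mul_index (N.subgroupOf H), index_eq_card,
    Nat.card_congr (subgroupOfEquivOfLe hNH).toEquiv, Nat.mul_comm]
  exact Nat.mul_le_mul_right _ h

/-- No involution outside a normal four group centralises it and is normal modulo it. -/
theorem Hyp.no_eight (hP : Hyp P) (E : Subgroup P) [hE : E.Normal] (hsq : ∀ x ∈ E, x * x = 1)
    (h4 : 4 ≤ Nat.card E) {d : P} (hd : d ∉ E) (hd2 : d * d = 1) (hc : ∀ x ∈ E, Commute x d)
    (hn : ∀ t : P, ⁅t, d⁆ ∈ E) : False := by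
  have hEc : ∀ a ∈ E, ∀ b ∈ E, a * b = b * a := fun a ha b hb => by
    calc a * b = (a * b)⁻¹ := (inv_eq_of_sq (hsq _ (mul_mem ha hb))).symm
      _ = b⁻¹ * a⁻¹ := mul_inv_rev a b
      _ = b * a := by rw [inv_eq_of_sq (hsq a ha), inv_eq_of_sq (hsq b hb)]
  let A : Subgroup P :=
    { carrier := {x | x ∈ E ∨ x * d ∈ E}
      one_mem' := Or.inl (one_mem E)
      mul_mem' := fun {a b} ha hb => by
        rcases ha with ha | ha <;> rcases hb with hb | hb
        · exact Or.inl (mul_mem ha hb)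
        · exact Or.inr (by rw [mul_assoc]; exact mul_mem ha hb)
        · refine Or.inr ?_
          rw [show a * b * d = a * (b * d) by group, (hc b hb).eq, ← mul_assoc]
          exact mul_mem ha hb
        · refine Or.inl ?_
          have e : a * b = (a * d) * (d⁻¹ * (b * d)) * d⁻¹ := by group
          rw [e, inv_eq_of_sq hd2, ← (hc _ hb).eq, mul_assoc, mul_assoc (b * d), hd2, mul_one]
          exact mul_mem ha hb
      inv_mem' := fun {a} ha => by
        rcases ha with ha | ha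
        · exact Or.inl (inv_mem ha)
        · refine Or.inr ?_
          have h1 : a⁻¹ * d = d * (a * d)⁻¹ * d := by group
          rw [h1, ← (hc _ (inv_mem ha)).eq, mul_assoc, hd2, mul_one]
          exact inv_mem ha }
  have hmem : ∀ {x : P}, x ∈ A ↔ x ∈ E ∨ x * d ∈ E := fun {x} => Iff.rfl
  have hdec : ∀ x ∈ A, ∃ u ∈ E, x = u ∨ x = u * d := by
    rintro x (hx | hx)
    · exact ⟨x, hx, Or.inl rfl⟩
    · exact ⟨x * d, hx, Or.inr (by rw [mul_assoc, hd2, mul_one])⟩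
  have hA : A.Normal := ⟨fun x hx g => by
    obtain ⟨u, hu, rfl | rfl⟩ := hdec x hx
    · exact Or.inl (hE.conj_mem x hu g)
    · refine hmem.2 (Or.inr ?_)
      have e : g * (u * d) * g⁻¹ * d = (g * u * g⁻¹) * ⁅g, d⁆ * (d * d) := by
        simp only [commutatorElement_def]; group
      rw [e, hd2, mul_one]
      exact mul_mem (hE.conj_mem u hu g) (hn g)⟩
  have hcm : ∀ u ∈ E, ∀ v ∈ E, Commute u (v * d) := fun u hu v hv => Commute.mul_right (hEc u hu v hv) (hc u hu)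
  have hAc : ∀ a ∈ A, ∀ b ∈ A, a * b = b * a := by
    intro a ha b hb
    obtain ⟨u, hu, rfl | rfl⟩ := hdec a ha <;> obtain ⟨v, hv, rfl | rfl⟩ := hdec b hb
    · exact hEc _ hu _ hv
    · exact hcm _ hu _ hv
    · exact (hcm _ hv _ hu).symm
    · exact (Commute.mul_left (hcm _ hu _ hv) (Commute.mul_right (hc v hv).symm (Commute.refl d))).eq
  have hAs : ∀ a ∈ A, a * a = 1 := by
    intro a ha
    obtain ⟨u, hu, rfl | rfl⟩ := hdec a ha
    · exact hsq _ hu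
    · rw [sq_of_comm (hc u hu), hsq u hu, hd2, mul_one]
  have hlt : E < A := by
    refine lt_of_le_of_ne (fun x hx => Or.inl hx) fun h => hd ?_
    rw [h]
    exact hmem.2 (Or.inr (by rw [hd2]; exact one_mem E))
  have h1 := hP.small A hA hAc hAs
  have h2 : Nat.card E < Nat.card A := Set.Finite.card_lt_card (Set.toFinite _) hlt
  omega

/-! ### A maximal invariant normal abelian subgroup -/

/-- `Z` is maximal among the `θ`-invariant normal abelian subgroups. -/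
structure Tower (θ : MulAut P) (Z : Subgroup P) : Prop where
  normal : Z.Normal
  comm : ∀ a ∈ Z, ∀ b ∈ Z, a * b = b * a
  inv : ∀ a ∈ Z, θ a ∈ Z
  max : ∀ Y : Subgroup P, Y.Normal → (∀ a ∈ Y, ∀ b ∈ Y, a * b = b * a) → (∀ a ∈ Y, θ a ∈ Y) →
    Z ≤ Y → Y ≤ Z

theorem exists_tower (θ : MulAut P) (Z₀ : Subgroup P) (hn : Z₀.Normal)
    (hc : ∀ a ∈ Z₀, ∀ b ∈ Z₀, a * b = b * a) (hi : ∀ a ∈ Z₀, θ a ∈ Z₀) :
    ∃ Z : Subgroup P, Z₀ ≤ Z ∧ Tower θ Z := by
  let S : Set (Subgroup P) := {Y | Y.Normal ∧ (∀ a ∈ Y, ∀ b ∈ Y, a * b = b * a) ∧ (∀ a ∈ Y, θ a ∈ Y) ∧ Z₀ ≤ Y}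
  haveI : Finite (Subgroup P) := Finite.of_injective _ SetLike.coe_injective
  obtain ⟨Z, ⟨h1, h2, h3, h4⟩, hmax⟩ := (Set.toFinite S).exists_maximal ⟨Z₀, hn, hc, hi, le_rfl⟩
  exact ⟨Z, h4, h1, h2, h3, fun Y hY1 hY2 hY3 hle => hmax (⟨hY1, hY2, hY3, h4.trans hle⟩ : Y ∈ S) hle⟩

variable {θ : MulAut P} {Z : Subgroup P}

/-- A bijection preserving a finite subgroup reflects membership. -/
theorem mem_of_map_mem {N : Subgroup P} (hN : ∀ a ∈ N, θ a ∈ N) {x : P} (hx : θ x ∈ N) : x ∈ N := by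
  have h : N.map θ.toMonoidHom = N := eq_of_le_of_card_ge
    (by rintro _ ⟨a, ha, rfl⟩; exact hN a ha)
    (card_map_of_injective θ.injective).ge
  rw [← h] at hx
  obtain ⟨a, ha, he⟩ := hx
  exact θ.injective he ▸ ha

theorem exists_map_eq (θ : MulAut P) (t : P) : ∃ s : P, θ s = t := θ.surjective t

theorem Tower.mem_C_iff (_h : Tower θ Z) {x : P} :
    x ∈ centralizer (Z : Set P) ↔ ∀ z ∈ Z, z * x = x * z := mem_centralizer_iff

theorem Tower.le_C (h : Tower θ Z) : Z ≤ centralizer (Z : Set P) :=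
  fun x hx => mem_centralizer_iff.2 fun z hz => h.comm z hz x hx

theorem Tower.C_inv (h : Tower θ Z) {x : P} (hx : x ∈ centralizer (Z : Set P)) :
    θ x ∈ centralizer (Z : Set P) := by
  rw [mem_centralizer_iff] at hx ⊢
  intro z hz
  obtain ⟨y, rfl⟩ := θ.surjective z
  rw [← map_mul, ← map_mul, hx y (mem_of_map_mem h.inv hz)]

theorem Tower.C_normal (h : Tower θ Z) : (centralizer (Z : Set P)).Normal :=
  ⟨fun x hx g => mem_centralizer_iff.2 fun z hz => by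
    have hz' : g⁻¹ * z * g ∈ Z := by simpa using h.normal.conj_mem z hz g⁻¹
    have := mem_centralizer_iff.1 hx _ hz'
    calc z * (g * x * g⁻¹) = g * ((g⁻¹ * z * g) * x) * g⁻¹ := by group
      _ = g * (x * (g⁻¹ * z * g)) * g⁻¹ := by rw [this]
      _ = _ := by group⟩

theorem Tower.conj_C {h : Tower θ Z} {k z : P} (hk : k ∈ centralizer (Z : Set P)) (hz : z ∈ Z) :
    k * z * k⁻¹ = z := by
  rw [← mem_centralizer_iff.1 hk z hz, mul_inv_cancel_right]

/-- The preimage in `C(Z)` of the involutions of the centre of `P/Z`. -/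
def Tower.K (h : Tower θ Z) : Subgroup P where
  carrier := {k | k ∈ centralizer (Z : Set P) ∧ k * k ∈ Z ∧ ∀ t : P, ⁅t, k⁆ ∈ Z}
  one_mem' := ⟨one_mem _, by rw [mul_one]; exact one_mem Z, fun t => by
    rw [commutatorElement_one_right]; exact one_mem Z⟩
  mul_mem' := fun {a b} ha hb => by
    refine ⟨mul_mem ha.1 hb.1, ?_, fun t => ?_⟩
    · have e : (a * b) * (a * b) = (a * a) * (a⁻¹ * ⁅b, a⁆ * a) * (b * b) := by
        simp only [commutatorElement_def]; group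
      rw [e]
      exact mul_mem (mul_mem ha.2.1 (by simpa using h.normal.conj_mem _ (ha.2.2 b) a⁻¹)) hb.2.1
    · rw [comm_mul]
      exact mul_mem (ha.2.2 t) (h.normal.conj_mem _ (hb.2.2 t) a)
  inv_mem' := fun {a} ha => by
    refine ⟨inv_mem ha.1, by rw [← mul_inv_rev]; exact inv_mem ha.2.1, fun t => ?_⟩
    have e : ⁅t, a⁻¹⁆ = a⁻¹ * ⁅t, a⁆⁻¹ * a := by simp only [commutatorElement_def]; group
    rw [e]
    simpa using h.normal.conj_mem _ (inv_mem (ha.2.2 t)) a⁻¹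

theorem Tower.mem_K (h : Tower θ Z) {k : P} :
    k ∈ h.K ↔ k ∈ centralizer (Z : Set P) ∧ k * k ∈ Z ∧ ∀ t : P, ⁅t, k⁆ ∈ Z := Iff.rfl

theorem Tower.K_le_C (h : Tower θ Z) : h.K ≤ centralizer (Z : Set P) := fun _ hk => hk.1

theorem Tower.Z_le_K (h : Tower θ Z) : Z ≤ h.K := fun z hz =>
  ⟨h.le_C hz, mul_mem hz hz, fun t => by
    rw [commutatorElement_def]; exact mul_mem (h.normal.conj_mem z hz t) (inv_mem hz)⟩

theorem Tower.K_normal (h : Tower θ Z) : h.K.Normal := ⟨fun k hk g => by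
  have e : g * k * g⁻¹ = ⁅g, k⁆ * k := by simp only [commutatorElement_def]; group
  rw [e]; exact mul_mem (h.Z_le_K (hk.2.2 g)) hk⟩

theorem Tower.K_inv (h : Tower θ Z) {k : P} (hk : k ∈ h.K) : θ k ∈ h.K := by
  refine ⟨h.C_inv hk.1, by rw [← map_mul]; exact h.inv _ hk.2.1, fun t => ?_⟩
  obtain ⟨s, rfl⟩ := θ.surjective t
  rw [← map_commutatorElement]
  exact h.inv _ (hk.2.2 s)

theorem Tower.conj_K (h : Tower θ Z) {k z : P} (hk : k ∈ h.K) (hz : z ∈ Z) : k * z * k⁻¹ = z :=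
  Tower.conj_C (h := h) hk.1 hz

/-- `Z(K) = Z`. -/
theorem Tower.mem_Z_of_central (h : Tower θ Z) {x : P} (hx : x ∈ h.K)
    (hc : ∀ k ∈ h.K, k * x = x * k) : x ∈ Z := by
  let Y : Subgroup P := h.K ⊓ centralizer (h.K : Set P)
  have hxY : x ∈ Y := ⟨hx, mem_centralizer_iff.2 hc⟩
  refine h.max Y ⟨fun y hy g => ⟨h.K_normal.conj_mem y hy.1 g, mem_centralizer_iff.2 fun k hk => ?_⟩⟩
    (fun a ha b hb => mem_centralizer_iff.1 hb.2 a ha.1)
    (fun a ha => ⟨h.K_inv ha.1, mem_centralizer_iff.2 fun k hk => ?_⟩)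
    (fun z hz => ⟨h.Z_le_K hz, mem_centralizer_iff.2 fun k hk => (mem_centralizer_iff.1 hk.1 z hz).symm⟩) hxY
  · have := mem_centralizer_iff.1 hy.2 (g⁻¹ * k * g) (by simpa using h.K_normal.conj_mem k hk g⁻¹)
    calc k * (g * y * g⁻¹) = g * ((g⁻¹ * k * g) * y) * g⁻¹ := by group
      _ = g * (y * (g⁻¹ * k * g)) * g⁻¹ := by rw [this]
      _ = _ := by group
  · obtain ⟨s, rfl⟩ := θ.surjective k
    have hs : s ∈ h.K := mem_of_map_mem (fun a ha => h.K_inv ha) hk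
    rw [← map_mul, ← map_mul, mem_centralizer_iff.1 ha.2 s hs]

/-- `C(K) ≤ Z`. -/
theorem Tower.mem_Z_of_comm (hP : Hyp P) (h : Tower θ Z) {y : P} (hy : ∀ k ∈ h.K, k * y = y * k) :
    y ∈ Z := by
  haveI : Fact (Nat.Prime 2) := ⟨Nat.prime_two⟩
  haveI := h.normal
  haveI := h.K_normal
  by_contra hyZ
  let Y := centralizer (h.K : Set P)
  let q := QuotientGroup.mk' Z
  haveI hYn : Y.Normal := ⟨fun x hx g => mem_centralizer_iff.2 fun k hk => by
    have := mem_centralizer_iff.1 hx (g⁻¹ * k * g) (by simpa using h.K_normal.conj_mem k hk g⁻¹)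
    calc k * (g * x * g⁻¹) = g * ((g⁻¹ * k * g) * x) * g⁻¹ := by group
      _ = g * (x * (g⁻¹ * k * g)) * g⁻¹ := by rw [this]
      _ = _ := by group⟩
  haveI hMn : (Y.map q).Normal := hYn.map q (QuotientGroup.mk'_surjective Z)
  have hne : Y.map q ≠ ⊥ := fun e => hyZ ((QuotientGroup.eq_one_iff y).1
    (mem_bot.1 (e ▸ mem_map_of_mem q (mem_centralizer_iff.2 hy) : q y ∈ (⊥ : Subgroup (P ⧸ Z)))))
  obtain ⟨_, ⟨x, hx, rfl⟩, hxc, hx2⟩ := PGroup.exists_central_order_p (hP.two.to_quotient Z) hne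
  have hxZ : x ∉ Z := fun e => by
    rw [show q x = 1 from (QuotientGroup.eq_one_iff x).2 e, orderOf_one] at hx2
    omega
  have hxK : x ∈ h.K := by
    refine ⟨mem_centralizer_iff.2 fun z hz => mem_centralizer_iff.1 hx z (h.Z_le_K hz), ?_, fun t => ?_⟩
    · refine (QuotientGroup.eq_one_iff _).1 ?_
      show q (x * x) = 1
      rw [map_mul, ← pow_two, ← hx2, pow_orderOf_eq_one]
    · refine (QuotientGroup.eq_one_iff _).1 ?_
      show q ⁅t, x⁆ = 1
      rw [map_commutatorElement, commutatorElement_eq_one_iff_mul_comm]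
      exact mem_center_iff.1 hxc (q t)
  exact hxZ (h.mem_Z_of_central hxK (mem_centralizer_iff.1 hx))

/-- The elements of `Z` of order at most two. -/
def Tower.Om (h : Tower θ Z) : Subgroup P where
  carrier := {z | z ∈ Z ∧ z * z = 1}
  one_mem' := ⟨one_mem Z, one_mul 1⟩
  mul_mem' := fun {a b} ha hb => ⟨mul_mem ha.1 hb.1, by
    rw [sq_of_comm (h.comm a ha.1 b hb.1), ha.2, hb.2, mul_one]⟩
  inv_mem' := fun {a} ha => ⟨inv_mem ha.1, by rw [inv_eq_of_sq ha.2]; exact ha.2⟩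

theorem Tower.mem_Om (h : Tower θ Z) {z : P} : z ∈ h.Om ↔ z ∈ Z ∧ z * z = 1 := Iff.rfl

theorem Tower.Om_le (h : Tower θ Z) : h.Om ≤ Z := fun _ hz => hz.1

theorem Tower.Om_normal (h : Tower θ Z) : h.Om.Normal := ⟨fun z hz g => ⟨h.normal.conj_mem z hz.1 g, by
  rw [show g * z * g⁻¹ * (g * z * g⁻¹) = g * (z * z) * g⁻¹ by group, hz.2, mul_one, mul_inv_cancel]⟩⟩

theorem Tower.Om_inv (h : Tower θ Z) {z : P} (hz : z ∈ h.Om) : θ z ∈ h.Om :=
  ⟨h.inv z hz.1, by rw [← map_mul, hz.2, map_one]⟩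

theorem Tower.card_Om_le (hP : Hyp P) (h : Tower θ Z) : Nat.card h.Om ≤ 4 :=
  hP.small h.Om h.Om_normal (fun a ha b hb => h.comm a ha.1 b hb.1) fun _ ha => ha.2

/-- Squaring is anisotropic on `K/Z` when `Ω₁(Z)` has order four. -/
theorem Tower.sq_mul_ne (hP : Hyp P) (h : Tower θ Z) (hW : 4 ≤ Nat.card h.Om) {k z : P} (hk : k ∈ h.K)
    (hkZ : k ∉ Z) (hz : z ∈ Z) : (k * z) * (k * z) ≠ 1 := by
  intro hsq
  have hkz : k * z ∈ h.K := mul_mem hk (h.Z_le_K hz)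
  have hkzZ : k * z ∉ Z := fun e => hkZ (by simpa using mul_mem e (inv_mem hz))
  haveI := h.Om_normal
  refine hP.no_eight h.Om (fun x hx => hx.2) hW (d := k * z) (fun e => hkzZ e.1) hsq
    (fun x hx => mem_centralizer_iff.1 hkz.1 x hx.1) fun t => ⟨hkz.2.2 t, ?_⟩
  have e : t * (k * z) * t⁻¹ = ⁅t, k * z⁆ * (k * z) := by simp only [commutatorElement_def]; group
  have h1 : (t * (k * z) * t⁻¹) * (t * (k * z) * t⁻¹) = 1 := by
    rw [show t * (k * z) * t⁻¹ * (t * (k * z) * t⁻¹) = t * ((k * z) * (k * z)) * t⁻¹ by group, hsq,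
      mul_one, mul_inv_cancel]
  rw [e, sq_of_comm (mem_centralizer_iff.1 hkz.1 _ (hkz.2.2 t)), hsq, mul_one] at h1
  exact h1

theorem Tower.comm_K_mul (h : Tower θ Z) {t k k' : P} (hk : k ∈ h.K) (hk' : k' ∈ h.K) :
    ⁅t, k * k'⁆ = ⁅t, k⁆ * ⁅t, k'⁆ := by
  rw [comm_mul, h.conj_K hk (hk'.2.2 t)]

theorem Tower.comm_K_one (h : Tower θ Z) {k z : P} (hk : k ∈ h.K) (hz : z ∈ Z) : ⁅z, k⁆ = 1 :=
  commutatorElement_eq_one_iff_mul_comm.2 (mem_centralizer_iff.1 hk.1 z hz)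

theorem Tower.comm_C_mul (h : Tower θ Z) {s t k : P} (hs : s ∈ centralizer (Z : Set P)) (hk : k ∈ h.K) :
    ⁅s * t, k⁆ = ⁅t, k⁆ * ⁅s, k⁆ := by
  rw [mul_comm_left, Tower.conj_C (h := h) hs (hk.2.2 t)]

/-- Commutators of `C(Z)` with `K` lie in `Ω₁(Z)`. -/
theorem Tower.comm_mem_Om (h : Tower θ Z) {t k : P} (ht : t ∈ centralizer (Z : Set P)) (hk : k ∈ h.K) :
    ⁅t, k⁆ ∈ h.Om :=
  ⟨hk.2.2 t, by
    rw [← h.comm_K_mul hk hk, commutatorElement_eq_one_iff_mul_comm]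
    exact (mem_centralizer_iff.1 ht _ hk.2.1).symm⟩

theorem Tower.sq_C (hP : Hyp P) (h : Tower θ Z) {t : P} (ht : t ∈ centralizer (Z : Set P)) : t * t ∈ Z :=
  h.mem_Z_of_comm hP fun _ hk => (commutatorElement_eq_one_iff_mul_comm.1
    (by rw [h.comm_C_mul ht hk]; exact (h.comm_mem_Om ht hk).2)).symm

theorem Tower.comm_C_C (hP : Hyp P) (h : Tower θ Z) {s t : P} (hs : s ∈ centralizer (Z : Set P))
    (ht : t ∈ centralizer (Z : Set P)) : ⁅s, t⁆ ∈ h.Om := by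
  have hst : ⁅s, t⁆ ∈ Z := by
    have := Sectional.commutator_mem_of_sq (H := centralizer (Z : Set P)) (N := Z)
      (fun x hx => by rw [pow_two]; exact h.sq_C hP hx) hs ht
    exact this
  refine ⟨hst, ?_⟩
  have h2 : ⁅s, t * t⁆ = 1 :=
    commutatorElement_eq_one_iff_mul_comm.2 (mem_centralizer_iff.1 hs _ (h.sq_C hP ht)).symm
  rwa [comm_mul, Tower.conj_C (h := h) ht hst] at h2

/-- `C(Z) = K` when `Ω₁(Z)` is central. -/
theorem Tower.cent_le_K (hP : Hyp P) (h : Tower θ Z) (hOm : ∀ w ∈ h.Om, ∀ s : P, s * w = w * s) :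
    centralizer (Z : Set P) ≤ h.K := by
  intro t ht
  refine ⟨ht, h.sq_C hP ht, fun s => h.mem_Z_of_comm hP fun k hk => ?_⟩
  have hts : s * t * s⁻¹ ∈ centralizer (Z : Set P) := h.C_normal.conj_mem t ht s
  obtain ⟨k', rfl⟩ : ∃ k', s * k' * s⁻¹ = k := ⟨s⁻¹ * k * s, by group⟩
  have hk' : k' ∈ h.K := by simpa [mul_assoc] using h.K_normal.conj_mem _ hk s⁻¹
  have h1 : ⁅s * t * s⁻¹, s * k' * s⁻¹⁆ = ⁅t, s * k' * s⁻¹⁆ := by
    rw [show ⁅s * t * s⁻¹, s * k' * s⁻¹⁆ = s * ⁅t, k'⁆ * s⁻¹ by simp only [commutatorElement_def]; group,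
      hOm _ (h.comm_mem_Om ht hk') s, mul_inv_cancel_right,
      show s * k' * s⁻¹ = ⁅s, k'⁆ * k' by simp only [commutatorElement_def]; group,
      h.comm_K_mul (h.Z_le_K (hk'.2.2 s)) hk',
      commutatorElement_eq_one_iff_mul_comm.2 (mem_centralizer_iff.1 ht _ (hk'.2.2 s)).symm, one_mul]
  refine (commutatorElement_eq_one_iff_mul_comm.1 ?_).symm
  rw [show ⁅s, t⁆ = (s * t * s⁻¹) * t⁻¹ by rw [commutatorElement_def], h.comm_C_mul hts hk, h1]
  rw [← h.comm_C_mul ht hk, mul_inv_cancel, commutatorElement_one_left]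

/-- The squares of elements of `Z`. -/
def Tower.Sq (h : Tower θ Z) : Subgroup P where
  carrier := {z | ∃ y ∈ Z, y * y = z}
  one_mem' := ⟨1, one_mem Z, one_mul 1⟩
  mul_mem' := by
    rintro _ _ ⟨a, ha, rfl⟩ ⟨b, hb, rfl⟩
    exact ⟨a * b, mul_mem ha hb, sq_of_comm (h.comm a ha b hb)⟩
  inv_mem' := by
    rintro _ ⟨a, ha, rfl⟩
    exact ⟨a⁻¹, inv_mem ha, (mul_inv_rev a a).symm⟩

theorem Tower.mem_Sq (h : Tower θ Z) {z : P} : z ∈ h.Sq ↔ ∃ y ∈ Z, y * y = z := Iff.rfl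

theorem Tower.Sq_le (h : Tower θ Z) : h.Sq ≤ Z := by
  rintro _ ⟨y, hy, rfl⟩; exact mul_mem hy hy

theorem Tower.sq_mem_Sq (h : Tower θ Z) {y : P} (hy : y ∈ Z) : y * y ∈ h.Sq := ⟨y, hy, rfl⟩

theorem Tower.Sq_conj (h : Tower θ Z) {z : P} (hz : z ∈ h.Sq) (g : P) : g * z * g⁻¹ ∈ h.Sq := by
  obtain ⟨y, hy, rfl⟩ := hz
  exact ⟨g * y * g⁻¹, h.normal.conj_mem y hy g, by group⟩

theorem Tower.Sq_inv (h : Tower θ Z) {z : P} (hz : z ∈ h.Sq) : θ z ∈ h.Sq := by
  obtain ⟨y, hy, rfl⟩ := hz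
  exact ⟨θ y, h.inv y hy, (map_mul θ y y).symm⟩

/-- `|Z²| · |Ω₁(Z)| = |Z|`. -/
theorem Tower.card_Sq_mul_card_Om (h : Tower θ Z) : Nat.card h.Sq * Nat.card h.Om = Nat.card Z := by
  let f : ↥Z →* P :=
    { toFun := fun y => (y : P) * y
      map_one' := one_mul 1
      map_mul' := fun a b => sq_of_comm (h.comm a a.2 b b.2) }
  have hr : f.range = h.Sq := by
    ext x
    constructor
    · rintro ⟨y, rfl⟩; exact ⟨y, y.2, rfl⟩
    · rintro ⟨y, hy, rfl⟩; exact ⟨⟨y, hy⟩, rfl⟩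
  have hk : f.ker = h.Om.subgroupOf Z := by
    ext ⟨x, hx⟩
    exact ⟨fun e => ⟨hx, e⟩, fun e => e.2⟩
  rw [← hr, ← index_ker, ← Nat.card_congr (subgroupOfEquivOfLe h.Om_le).toEquiv, ← hk, index_mul_card]

end Cfsg.Agent.NormalRankTwoOdd
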