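import Cfsg.Agent.Lib.NormalRankTwoOdd.Basic

/-!
# The automorphism fixes the maximal subgroup (helper73)

`θ` fixes every element of `Z`. Then `P = L R` with `L = ⟨k⁻¹ θ(k) : k ∈ K⟩` and `R` the fixed
points, `[L, R] = 1`.

* `Tower.gen_sq`, `Tower.L_sq`: squares on `L` lie in `Ω₁(Z)`
* `Tower.fix_comm_L`, `Tower.exists_decomp`: the decomposition
* `Rigid`: the property that contradicts simplicity (see `Fusion`)
* `Tower.sq_fix_mem`: involutions among squares of fixed points lie in `Z`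
-/

set_option autoImplicit false
set_option linter.style.haveILetI false
set_option linter.unusedSectionVars false

open Subgroup
open scoped commutatorElement

namespace Cfsg.Agent.NormalRankTwoOdd

variable {P : Type*} [Group P]

/-- A central involution `c` is a square inside the centraliser of every noncentral involution, and
the involutions that are squares are central. -/
def Rigid (P : Type*) [Group P] : Prop :=
  ∃ c : P, c * c = 1 ∧ c ≠ 1 ∧ c ∈ center P ∧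
    (∀ x : P, x * x = 1 → x ∉ center P → ∃ i : P, Commute i x ∧ i * i = c) ∧
    ∀ x : P, (x * x) * (x * x) = 1 → x * x ∈ center P

/-- The fixed points of `θ`. -/
def fixSub (θ : MulAut P) : Subgroup P where
  carrier := {x | θ x = x}
  one_mem' := map_one θ
  mul_mem' := fun {a b} (ha : θ a = a) (hb : θ b = b) => show θ (a * b) = a * b by rw [map_mul, ha, hb]
  inv_mem' := fun {a} (ha : θ a = a) => show θ a⁻¹ = a⁻¹ by rw [map_inv, ha]

theorem mem_fixSub {θ : MulAut P} {x : P} : x ∈ fixSub θ ↔ θ x = x := Iff.rfl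

/-- Two elements outside a subgroup of index at most two have their product in it. -/
theorem mul_mem_of_card_le [Finite P] {N M : Subgroup P} (hNM : N ≤ M)
    (h : Nat.card M ≤ 2 * Nat.card N) {a b : P} (ha : a ∈ M) (hb : b ∈ M) (ha' : a ∉ N) (hb' : b ∉ N) :
    a * b ∈ N := by
  have h1 := card_mul_index (N.subgroupOf M)
  rw [Nat.card_congr (subgroupOfEquivOfLe hNM).toEquiv] at h1
  have h2 : (N.subgroupOf M).index ≤ 2 :=
    Nat.le_of_mul_le_mul_left (by rw [h1, mul_comm (Nat.card N)]; exact h) Nat.card_pos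
  have h3 : (N.subgroupOf M).index ≠ 1 := fun e => ha' (mem_subgroupOf.1
    ((index_eq_one.1 e).symm ▸ mem_top (⟨a, ha⟩ : M)))
  have h4 := index_ne_zero_of_finite (H := N.subgroupOf M)
  have h5 := mul_mem_iff_of_index_two (H := N.subgroupOf M) (by omega) (a := ⟨a, ha⟩) (b := ⟨b, hb⟩)
  exact mem_subgroupOf.1 (h5.2 (iff_of_false (fun e => ha' (mem_subgroupOf.1 e))
    (fun e => hb' (mem_subgroupOf.1 e))))

/-- Commuting involutions whose conjugates stay in their span generate at most a four group. -/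
theorem Hyp.card_closure_le [Finite P] (hP : Hyp P) (S : Set P) (hs : ∀ x ∈ S, x * x = 1)
    (hc : ∀ x ∈ S, ∀ y ∈ S, x * y = y * x) (hn : ∀ x ∈ S, ∀ t : P, ⁅t, x⁆ ∈ closure S) :
    Nat.card (closure S) ≤ 4 := by
  haveI := isMulCommutative_closure hc
  have hcm : ∀ a ∈ closure S, ∀ b ∈ closure S, a * b = b * a := fun a ha b hb =>
    congrArg Subtype.val (IsMulCommutative.is_comm.comm (⟨a, ha⟩ : closure S) ⟨b, hb⟩)
  refine hP.small _ ⟨fun x hx g => ?_⟩ hcm fun x hx => ?_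
  · induction hx using closure_induction with
    | mem x hx =>
      rw [show g * x * g⁻¹ = ⁅g, x⁆ * x by simp only [commutatorElement_def]; group]
      exact mul_mem (hn x hx g) (subset_closure hx)
    | one => simp
    | mul a b _ _ ha hb =>
      rw [show g * (a * b) * g⁻¹ = g * a * g⁻¹ * (g * b * g⁻¹) by group]
      exact mul_mem ha hb
    | inv a _ ha =>
      rw [show g * a⁻¹ * g⁻¹ = (g * a * g⁻¹)⁻¹ by group]
      exact inv_mem ha
  · induction hx using closure_induction with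
    | mem x hx => exact hs x hx
    | one => exact one_mul 1
    | mul a b ha' hb' ha hb => rw [sq_of_comm (hcm a ha' b hb'), ha, hb, mul_one]
    | inv a _ ha => rw [← mul_inv_rev, ha, inv_one]

variable [Finite P] {θ : MulAut P} {Z : Subgroup P} {p : ℕ}

/-- The subgroup generated by the displacements of `θ` on `K`. -/
def Tower.L (h : Tower θ Z) : Subgroup P := closure ((fun k => k⁻¹ * θ k) '' (h.K : Set P))

theorem Tower.gen_mem_L (h : Tower θ Z) {k : P} (hk : k ∈ h.K) : k⁻¹ * θ k ∈ h.L :=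
  subset_closure ⟨k, hk, rfl⟩

theorem Tower.L_le_K (h : Tower θ Z) : h.L ≤ h.K := by
  rw [Tower.L, closure_le]
  rintro _ ⟨k, hk, rfl⟩
  exact mul_mem (inv_mem hk) (h.K_inv hk)

theorem Tower.L_inv (h : Tower θ Z) {x : P} (hx : x ∈ h.L) : θ x ∈ h.L := by
  induction hx using closure_induction with
  | mem x hx =>
    obtain ⟨k, hk, rfl⟩ := hx
    simp only
    rw [map_mul, map_inv]
    exact h.gen_mem_L (h.K_inv hk)
  | one => rw [map_one]; exact one_mem _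
  | mul a b _ _ ha hb => rw [map_mul]; exact mul_mem ha hb
  | inv a _ ha => rw [map_inv]; exact inv_mem ha

theorem Tower.mul_sq_K (h : Tower θ Z) {a b : P} (ha : a ∈ h.K) (hb : b ∈ h.K) :
    (a * b) * (a * b) = (a * a) * (b * b) * ⁅b, a⁆ := by
  have e : (a * b) * (a * b) = (a * a) * (a⁻¹ * ⁅b, a⁆ * a) * (b * b) := by
    simp only [commutatorElement_def]; group
  have hZ : ⁅b, a⁆ ∈ Z := ha.2.2 b
  have h1 : a⁻¹ * ⁅b, a⁆ * a = ⁅b, a⁆ := by simpa using h.conj_K (inv_mem ha) hZ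
  rw [e, h1, mul_assoc, h.comm _ hZ _ hb.2.1, ← mul_assoc]

theorem Tower.gen_sq (h : Tower θ Z) (hfix : ∀ z ∈ Z, θ z = z) {k : P} (hk : k ∈ h.K) :
    (k⁻¹ * θ k) * (k⁻¹ * θ k) = ⁅k⁻¹, k⁻¹ * θ k⁆⁻¹ := by
  have hs : θ k * θ k = k * k := by rw [← map_mul, hfix _ hk.2.1]
  calc (k⁻¹ * θ k) * (k⁻¹ * θ k) = k⁻¹ * θ k * k⁻¹ * (θ k)⁻¹ * (θ k * θ k) := by group
    _ = k⁻¹ * θ k * k⁻¹ * (θ k)⁻¹ * (k * k) := by rw [hs]
    _ = _ := by simp only [commutatorElement_def, mul_inv_rev, inv_inv, mul_assoc]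

theorem Tower.gen_sq_mem (h : Tower θ Z) (hfix : ∀ z ∈ Z, θ z = z) {k : P} (hk : k ∈ h.K) :
    (k⁻¹ * θ k) * (k⁻¹ * θ k) ∈ h.Om := by
  rw [h.gen_sq hfix hk]
  exact inv_mem (h.comm_mem_Om (inv_mem hk).1 (mul_mem (inv_mem hk) (h.K_inv hk)))

/-- A condition on squares that holds on generators holds on `L`. -/
theorem Tower.L_sq_of (h : Tower θ Z) (V : Subgroup P) (hVZ : V ≤ Z)
    (hgen : ∀ k ∈ h.K, (k⁻¹ * θ k) * (k⁻¹ * θ k) ∈ V)
    (hcomm : ∀ a ∈ h.L, ∀ b ∈ h.L, ⁅b, a⁆ ∈ V) {x : P} (hx : x ∈ h.L) : x * x ∈ V := by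
  induction hx using closure_induction with
  | mem x hx => obtain ⟨k, hk, rfl⟩ := hx; exact hgen k hk
  | one => rw [mul_one]; exact one_mem V
  | mul a b ha hb iha ihb =>
    rw [h.mul_sq_K (h.L_le_K ha) (h.L_le_K hb)]
    exact mul_mem (mul_mem iha ihb) (hcomm a ha b hb)
  | inv a _ ha => rw [← mul_inv_rev]; exact inv_mem ha

theorem Tower.L_sq (h : Tower θ Z) (hfix : ∀ z ∈ Z, θ z = z) {x : P} (hx : x ∈ h.L) : x * x ∈ h.Om :=
  h.L_sq_of h.Om h.Om_le (fun _ hk => h.gen_sq_mem hfix hk)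
    (fun _ ha _ hb => h.comm_mem_Om (h.K_le_C (h.L_le_K hb)) (h.L_le_K ha)) hx

/-- Fixed points centralise `L`. -/
theorem Tower.fix_comm_L (h : Tower θ Z) (hfix : ∀ z ∈ Z, θ z = z) {r l : P} (hr : θ r = r)
    (hl : l ∈ h.L) : r * l = l * r := by
  induction hl using closure_induction with
  | mem x hx =>
    obtain ⟨k, hk, rfl⟩ := hx
    simp only
    have hl : k⁻¹ * θ k ∈ h.K := mul_mem (inv_mem hk) (h.K_inv hk)
    have h1 : ⁅r, k * (k⁻¹ * θ k)⁆ = ⁅r, k⁆ := by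
      rw [mul_inv_cancel_left]
      calc ⁅r, θ k⁆ = ⁅θ r, θ k⁆ := by rw [hr]
        _ = θ ⁅r, k⁆ := (map_commutatorElement θ r k).symm
        _ = ⁅r, k⁆ := hfix _ (hk.2.2 r)
    rw [h.comm_K_mul hk hl, mul_eq_left] at h1
    exact commutatorElement_eq_one_iff_mul_comm.1 h1
  | one => simp
  | mul a b _ _ ha hb => rw [← mul_assoc, ha, mul_assoc, hb, mul_assoc]
  | inv a _ ha => exact (Commute.inv_right ha)

/-- `θ` moves `K` modulo `Z`. -/
theorem Tower.exists_gen (hP : Hyp P) (hθ : OddAct θ p) (hne : θ ≠ 1) (h : Tower θ Z)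
    (hfix : ∀ z ∈ Z, θ z = z) : ∃ k ∈ h.K, k⁻¹ * θ k ∉ Z := by
  by_contra hno
  push Not at hno
  have hK : ∀ k ∈ h.K, θ k = k := fun k hk =>
    hθ.fixed_of_twist hP.two (z := k⁻¹ * θ k) (mul_inv_cancel_left _ _).symm (hfix _ (hno k hk))
  refine hne (MulEquiv.ext fun t => ?_)
  have hz : t⁻¹ * θ t ∈ Z := h.mem_Z_of_comm hP fun k hk => by
    have h1 : t * k * t⁻¹ ∈ h.K := h.K_normal.conj_mem k hk t
    have h2 : θ t * k * (θ t)⁻¹ = t * k * t⁻¹ := by
      have := hK _ h1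
      rwa [map_mul, map_mul, map_inv, hK k hk] at this
    calc k * (t⁻¹ * θ t) = t⁻¹ * (t * k * t⁻¹) * θ t := by group
      _ = t⁻¹ * (θ t * k * (θ t)⁻¹) * θ t := by rw [h2]
      _ = _ := by group
  exact hθ.fixed_of_twist hP.two (mul_inv_cancel_left _ _).symm (hfix _ hz)

/-- A moved displacement is not congruent to a fixed element modulo `Z`. -/
theorem Tower.gen_mul_fix (hP : Hyp P) (hθ : OddAct θ p) (h : Tower θ Z) (hfix : ∀ z ∈ Z, θ z = z)
    {k r : P} (hg : k⁻¹ * θ k ∉ Z) (hr : θ r = r) : r * (k⁻¹ * θ k) ∉ Z := by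
  intro hz
  have hl : θ (k⁻¹ * θ k) = k⁻¹ * θ k := by
    have := hfix _ hz
    rw [map_mul, hr] at this
    exact mul_left_cancel this
  have := hθ.fixed_of_twist hP.two (mul_inv_cancel_left k (θ k)).symm hl
  exact hg (by rw [this, inv_mul_cancel]; exact one_mem Z)

/-- Every coset of `C(Z)` contains a fixed point. -/
theorem Tower.exists_fix_coset (hP : Hyp P) (hθ : OddAct θ p) (h : Tower θ Z)
    (hfix : ∀ z ∈ Z, θ z = z) (t : P) : ∃ c ∈ centralizer (Z : Set P), θ (t * c) = t * c := by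
  refine hθ.exists_fixed_coset hP.two _ (fun x hx => h.C_inv hx) (mem_centralizer_iff.2 fun z hz => ?_)
  have h1 : θ t * z * (θ t)⁻¹ = t * z * t⁻¹ := by
    have := hfix _ (h.normal.conj_mem z hz t)
    rwa [map_mul, map_mul, map_inv, hfix z hz] at this
  calc z * (t⁻¹ * θ t) = t⁻¹ * (t * z * t⁻¹) * θ t := by group
    _ = t⁻¹ * (θ t * z * (θ t)⁻¹) * θ t := by rw [h1]
    _ = _ := by group

/-- `P = L R`. -/
theorem Tower.exists_decomp (hP : Hyp P) (hθ : OddAct θ p) (h : Tower θ Z) (hfix : ∀ z ∈ Z, θ z = z)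
    (hCK : centralizer (Z : Set P) ≤ h.K) (t : P) :
    ∃ l ∈ h.L, ∃ r : P, θ r = r ∧ t = l * r := by
  obtain ⟨c, hc, hr0⟩ := h.exists_fix_coset hP hθ hfix t
  have hk : c⁻¹ ∈ h.K := hCK (inv_mem hc)
  obtain ⟨n, hn, hr1⟩ := hθ.exists_fixed_coset hP.two h.L (fun x hx => h.L_inv hx) (h.gen_mem_L hk)
  have hr : θ ((t * c) * (c⁻¹ * n)) = (t * c) * (c⁻¹ * n) := by rw [map_mul, hr0, hr1]
  refine ⟨n⁻¹, inv_mem hn, _, hr, ?_⟩
  rw [← h.fix_comm_L hfix hr (inv_mem hn)]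
  group

/-- A displacement fixed modulo `Z` lies in `Z`. -/
theorem Tower.L_free (hP : Hyp P) (hθ : OddAct θ p) (h : Tower θ Z) (hfix : ∀ z ∈ Z, θ z = z)
    (hCK : centralizer (Z : Set P) ≤ h.K) {l : P} (hl : l ∈ h.L) (hm : l⁻¹ * θ l ∈ Z) : l ∈ Z := by
  have hlf : θ l = l := hθ.fixed_of_twist hP.two (mul_inv_cancel_left _ _).symm (hfix _ hm)
  refine h.mem_Z_of_central (h.L_le_K hl) fun k _ => ?_
  obtain ⟨m, hm', r, hr, rfl⟩ := h.exists_decomp hP hθ hfix hCK k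
  exact (Commute.mul_left (h.fix_comm_L hfix hlf hm').symm (h.fix_comm_L hfix hr hl))

/-- The subgroup `Z² Ω₁(Z)`. -/
def Tower.Nsub (h : Tower θ Z) : Subgroup P where
  carrier := {z | ∃ y ∈ h.Sq, ∃ w ∈ h.Om, y * w = z}
  one_mem' := ⟨1, one_mem _, 1, one_mem _, one_mul 1⟩
  mul_mem' := by
    rintro _ _ ⟨y, hy, w, hw, rfl⟩ ⟨y', hy', w', hw', rfl⟩
    exact ⟨y * y', mul_mem hy hy', w * w', mul_mem hw hw',
      Commute.mul_mul_mul_comm (h.comm y' (h.Sq_le hy') w hw.1) y w'⟩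
  inv_mem' := by
    rintro _ ⟨y, hy, w, hw, rfl⟩
    exact ⟨y⁻¹, inv_mem hy, w⁻¹, inv_mem hw, by
      rw [mul_inv_rev, h.comm _ (inv_mem hw.1) _ (inv_mem (h.Sq_le hy))]⟩

theorem Tower.Nsub_le (h : Tower θ Z) : h.Nsub ≤ Z := by
  rintro _ ⟨y, hy, w, hw, rfl⟩; exact mul_mem (h.Sq_le hy) hw.1

theorem Tower.Sq_le_Nsub (h : Tower θ Z) : h.Sq ≤ h.Nsub := fun y hy => ⟨y, hy, 1, one_mem _, mul_one y⟩

theorem Tower.Om_le_Nsub (h : Tower θ Z) : h.Om ≤ h.Nsub := fun w hw => ⟨1, one_mem _, w, hw, one_mul w⟩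

theorem Tower.Nsub_conj (h : Tower θ Z) {z : P} (hz : z ∈ h.Nsub) (g : P) : g * z * g⁻¹ ∈ h.Nsub := by
  obtain ⟨y, hy, w, hw, rfl⟩ := hz
  exact ⟨g * y * g⁻¹, h.Sq_conj hy g, g * w * g⁻¹, h.Om_normal.conj_mem w hw g, by group⟩

/-- Fixed points of `K` lie in `Z`, if their squares avoid `Z² Ω₁(Z)`, of index two in `Z`. -/
theorem Tower.fix_K_le (hP : Hyp P) (hθ : OddAct θ p) (h : Tower θ Z) (hfix : ∀ z ∈ Z, θ z = z)
    (hCK : centralizer (Z : Set P) ≤ h.K) (hN : Nat.card Z ≤ 2 * Nat.card h.Nsub)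
    (hk2 : ∀ k ∈ h.K, θ k = k → k ∉ Z → k * k ∉ h.Nsub) {k : P} (hk : k ∈ h.K) (hkf : θ k = k) :
    k ∈ Z := by
  by_contra hkZ
  refine hkZ (h.mem_Z_of_central hk fun x hx => ?_)
  obtain ⟨l, hl, r, hr, rfl⟩ := h.exists_decomp hP hθ hfix hCK x
  have hrK : r ∈ h.K := by simpa using mul_mem (inv_mem (h.L_le_K hl)) hx
  have hrk : Commute r k := by
    by_cases hrZ : r ∈ Z
    · exact mem_centralizer_iff.1 hk.1 r hrZ
    have hs : (r * k) * (r * k) ∈ h.Nsub := by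
      rw [h.mul_sq_K hrK hk]
      exact mul_mem (mul_mem_of_card_le h.Nsub_le hN hrK.2.1 hk.2.1 (hk2 r hrK hr hrZ)
        (hk2 k hk hkf hkZ)) (h.Om_le_Nsub (h.comm_mem_Om hk.1 hrK))
    have hrkZ : r * k ∈ Z := by
      by_contra hc
      exact hk2 _ (mul_mem hrK hk) (by rw [map_mul, hr, hkf]) hc hs
    have := mem_centralizer_iff.1 hk.1 _ hrkZ
    rw [← mul_assoc k r k] at this
    exact mul_right_cancel this
  exact Commute.mul_left (h.fix_comm_L hfix hkf hl).symm hrk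

theorem Tower.comm_Z_mul (h : Tower θ Z) (t : P) {a b : P} (ha : a ∈ Z) (hb : b ∈ Z) :
    ⁅t, a * b⁆ = ⁅t, a⁆ * ⁅t, b⁆ := h.comm_K_mul (h.Z_le_K ha) (h.Z_le_K hb)

/-- An element inverted by `d` has order at most two, if `d` fixes the elements of order four. -/
theorem Tower.sq_one_of_inverted (hP : Hyp P) (h : Tower θ Z) {d : P}
    (hd : ∀ z ∈ Z, (z * z) * (z * z) = 1 → d * z * d⁻¹ = z) {u : P} (hu : u ∈ Z)
    (hi : d * u * d⁻¹ = u⁻¹) : u * u = 1 := by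
  obtain ⟨j, hj⟩ := hP.two u
  induction j generalizing u with
  | zero => rw [pow_zero, pow_one] at hj; rw [hj, one_mul]
  | succ j ih =>
    have h2 : (u * u) * (u * u) = 1 := ih (mul_mem hu hu)
      (by rw [show d * (u * u) * d⁻¹ = (d * u * d⁻¹) * (d * u * d⁻¹) by group, hi, mul_inv_rev])
      (by rw [← pow_two, ← pow_mul, ← pow_succ']; exact hj)
    have := hd u hu h2
    rw [hi] at this
    calc u * u = u⁻¹ * u := by rw [this]
      _ = 1 := inv_mul_cancel u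

/-- An involution that is the square of a fixed point lies in `Z`, unless it spans a forbidden
elementary subgroup. -/
theorem Tower.sq_fix_mem (hP : Hyp P) (hθ : OddAct θ p) (h : Tower θ Z) (hfix : ∀ z ∈ Z, θ z = z)
    (hOm : ∀ w ∈ h.Om, ∀ s : P, s * w = w * s) (hN : Nat.card Z ≤ 2 * Nat.card h.Nsub)
    (hKf : ∀ k ∈ h.K, θ k = k → k ∈ Z)
    (hno : ∀ d : P, θ d = d → d ∉ Z → d * d = 1 →
      (∀ z ∈ Z, (z * z) * (z * z) = 1 → d * z * d⁻¹ = z) → (∀ t : P, ⁅t, d⁆ ∈ h.Om) → False)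
    {r : P} (hr : θ r = r) (hinv : (r * r) * (r * r) = 1) : r * r ∈ Z := by
  have hCK := h.cent_le_K hP hOm
  by_contra hdZ
  set d := r * r with hd
  have hdf : θ d = d := by rw [hd, map_mul, hr]
  have hdQ : ∀ z ∈ Z, (z * z) * (z * z) = 1 → d * z * d⁻¹ = z := by
    intro z hz hz4
    have hw : z * z ∈ h.Om := ⟨mul_mem hz hz, hz4⟩
    have hψ : ⁅r, z⁆ ∈ h.Om := ⟨(h.Z_le_K hz).2.2 r, by
      rw [← h.comm_Z_mul r hz hz, commutatorElement_eq_one_iff_mul_comm]; exact hOm _ hw r⟩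
    have h1 : ⁅r * r, z⁆ = 1 := by
      rw [mul_comm_left, hOm _ hψ r, mul_inv_cancel_right, hψ.2]
    rw [(commutatorElement_eq_one_iff_mul_comm.1 h1 : d * z = z * d), mul_inv_cancel_right]
  have hψOm : ∀ z ∈ Z, ⁅d, z⁆ ∈ h.Om := fun z hz => by
    refine ⟨(h.Z_le_K hz).2.2 d, h.sq_one_of_inverted hP hdQ ((h.Z_le_K hz).2.2 d) ?_⟩
    have hdz : d * z * d⁻¹ ∈ Z := h.normal.conj_mem z hz d
    calc d * ⁅d, z⁆ * d⁻¹ = (d * d) * z * (d * d)⁻¹ * (d * z * d⁻¹)⁻¹ := by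
          simp only [commutatorElement_def]; group
      _ = z * (d * z * d⁻¹)⁻¹ := by rw [hinv]; group
      _ = _ := by rw [commutatorElement_def, mul_inv_rev (d * z * d⁻¹), inv_inv]
  have hψN : ∀ z ∈ h.Nsub, ⁅d, z⁆ = 1 := by
    rintro _ ⟨y, ⟨x, hx, rfl⟩, w, hw, rfl⟩
    rw [h.comm_Z_mul d (mul_mem hx hx) hw.1, h.comm_Z_mul d hx hx, (hψOm x hx).2, one_mul,
      commutatorElement_eq_one_iff_mul_comm]
    exact hOm w hw d
  have hψC : ∀ (g z : P), z ∈ Z → ⁅d, g⁻¹ * z * g⁆ = ⁅d, z⁆ := by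
    intro g z hz
    have hz' : g⁻¹ * z * g ∈ Z := by simpa using h.normal.conj_mem z hz g⁻¹
    by_cases hzN : z ∈ h.Nsub
    · rw [hψN z hzN, hψN _ (by simpa using h.Nsub_conj hzN g⁻¹)]
    · have hz'N : g⁻¹ * z * g ∉ h.Nsub := fun e => hzN (by
        have := h.Nsub_conj e g; rwa [show g * (g⁻¹ * z * g) * g⁻¹ = z by group] at this)
      have h1 := hψN _ (mul_mem_of_card_le h.Nsub_le hN hz' hz hz'N hzN)
      rw [h.comm_Z_mul d hz' hz] at h1
      rw [eq_inv_of_mul_eq_one_left h1, inv_eq_of_sq (hψOm z hz).2]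
  have hfixed : ∀ r' : P, θ r' = r' → ⁅r', d⁆ ∈ h.Om := by
    intro r' hr'
    have hact : ∀ z ∈ Z, (r' * d * r'⁻¹) * z * (r' * d * r'⁻¹)⁻¹ = d * z * d⁻¹ := fun z hz => by
      calc (r' * d * r'⁻¹) * z * (r' * d * r'⁻¹)⁻¹ = r' * ⁅d, r'⁻¹ * z * r'⁆ * r'⁻¹ * z := by
            simp only [commutatorElement_def]; group
        _ = ⁅d, z⁆ * z := by rw [hψC r' z hz, hOm _ (hψOm z hz) r', mul_inv_cancel_right]
        _ = _ := by simp only [commutatorElement_def]; group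
    have heC : ⁅r', d⁆ ∈ centralizer (Z : Set P) := mem_centralizer_iff.2 fun z hz => by
      have hz' : d⁻¹ * z * d ∈ Z := by simpa using h.normal.conj_mem z hz d⁻¹
      have h3 := hact _ hz'
      rw [show d * (d⁻¹ * z * d) * d⁻¹ = z by group] at h3
      calc z * ⁅r', d⁆ = z * ((r' * d * r'⁻¹) * d⁻¹) := by simp only [commutatorElement_def]
        _ = ((r' * d * r'⁻¹) * (d⁻¹ * z * d) * (r' * d * r'⁻¹)⁻¹) * ((r' * d * r'⁻¹) * d⁻¹) := by
            rw [h3]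
        _ = _ := by simp only [commutatorElement_def]; group
    have heZ : ⁅r', d⁆ ∈ Z := hKf _ (hCK heC) (by rw [map_commutatorElement, hr', hdf])
    refine ⟨heZ, h.sq_one_of_inverted hP hdQ heZ ?_⟩
    have h1 : (⁅r', d⁆ * d) * (⁅r', d⁆ * d) = 1 := by
      rw [show (⁅r', d⁆ * d) * (⁅r', d⁆ * d) = r' * (d * d) * r'⁻¹ by
        simp only [commutatorElement_def]; group, hinv, mul_one, mul_inv_cancel]
    rw [mul_assoc, ← mul_assoc d] at h1
    have h2 := eq_inv_of_mul_eq_one_right h1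
    rwa [inv_eq_of_sq hinv]
  refine hno d hdf hdZ hinv hdQ fun t => ?_
  obtain ⟨l, hl, r', hr', rfl⟩ := h.exists_decomp hP hθ hfix hCK t
  rw [mul_comm_left, commutatorElement_eq_one_iff_mul_comm.2 (h.fix_comm_L hfix hdf hl).symm, mul_one,
    h.conj_K (h.L_le_K hl) (hfixed r' hr').1]
  exact hfixed r' hr'

/-- `Rigid` from the decomposition. -/
theorem Tower.rigid_of (hP : Hyp P) (hθ : OddAct θ p) (h : Tower θ Z) (hfix : ∀ z ∈ Z, θ z = z)
    (hCK : centralizer (Z : Set P) ≤ h.K) {c : P} (hc2 : c * c = 1) (hc1 : c ≠ 1) (hcc : c ∈ center P)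
    (hLsq : ∀ l ∈ h.L, l * l = 1 ∨ l * l = c) (hroot : ∀ l ∈ h.L, ∃ i ∈ h.L, Commute i l ∧ i * i = c)
    (hsq : ∀ r : P, θ r = r → (r * r) * (r * r) = 1 → r * r ∈ center P) : Rigid P := by
  refine ⟨c, hc2, hc1, hcc, fun x _ _ => ?_, fun x hx => ?_⟩
  · obtain ⟨l, hl, r, hr, rfl⟩ := h.exists_decomp hP hθ hfix hCK x
    obtain ⟨i, hi, hil, hi2⟩ := hroot l hl
    exact ⟨i, hil.mul_right (h.fix_comm_L hfix hr hi).symm, hi2⟩
  · obtain ⟨l, hl, r, hr, rfl⟩ := h.exists_decomp hP hθ hfix hCK x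
    have hl2 : l * l ∈ center P ∧ (l * l) * (l * l) = 1 := by
      rcases hLsq l hl with e | e <;> rw [e]
      · exact ⟨one_mem _, one_mul 1⟩
      · exact ⟨hcc, hc2⟩
    have e : (l * r) * (l * r) = (l * l) * (r * r) := sq_of_comm (h.fix_comm_L hfix hr hl).symm
    rw [e] at hx ⊢
    refine mul_mem hl2.1 (hsq r hr ?_)
    rwa [sq_of_comm (mem_center_iff.1 hl2.1 (r * r)).symm, hl2.2, one_mul] at hx

end Cfsg.Agent.NormalRankTwoOdd
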