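import Cfsg.Agent.Lib.NormalRankTwoOdd.Fixed

/-!
# The automorphism fixes the maximal subgroup: the cases (helper73)

* `Tower.rigid_cyclic`: `|Ω₁(Z)| = 2`
* `Tower.rigid_big`: `|Ω₁(Z)| = 4` and `Z` has exponent at least four
* `Tower.rigid_small`: `Z` is a four group; then `Rigid P` or `|P| = 128`
* `Tower.fixed_case`: the summary
-/

set_option autoImplicit false
set_option linter.style.haveILetI false
set_option linter.unusedSectionVars false

open Subgroup
open scoped commutatorElement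

namespace Cfsg.Agent.NormalRankTwoOdd

variable {P : Type*} [Group P] [Finite P] {θ : MulAut P} {Z : Subgroup P} {p : ℕ}

/-- In a group of order two every element is trivial or equal to a given nontrivial one. -/
theorem eq_or_eq_of_card_two {N : Subgroup P} (h : Nat.card N = 2) {c w : P} (hc : c ∈ N) (hc1 : c ≠ 1)
    (hw : w ∈ N) : w = 1 ∨ w = c := by
  classical
  by_contra hne
  push Not at hne
  have hs : ((({1, c, w} : Finset P) : Set P)) ⊆ N := by
    intro x hx
    simp only [Finset.coe_insert, Finset.coe_singleton, Set.mem_insert_iff, Set.mem_singleton_iff] at hx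
    rcases hx with rfl | rfl | rfl
    exacts [one_mem N, hc, hw]
  have h3 := Nat.card_mono (Set.toFinite (N : Set P)) hs
  rw [Nat.card_coe_set_eq, Set.ncard_coe_finset,
    Finset.card_insert_of_notMem (by simp [hc1.symm, hne.1.symm]),
    Finset.card_pair hne.2.symm] at h3
  change 2 + 1 ≤ Nat.card N at h3
  omega

theorem Tower.exists_four (hP : Hyp P) (h : Tower θ Z) (hZ : ¬ Z ≤ h.Om) :
    ∃ z ∈ Z, z * z ≠ 1 ∧ (z * z) * (z * z) = 1 := by
  obtain ⟨x, hx, hxO⟩ := SetLike.not_le_iff_exists.1 hZ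
  obtain ⟨j, hj⟩ := hP.two x
  induction j generalizing x with
  | zero =>
    rw [pow_zero, pow_one] at hj
    exact absurd ⟨hx, by rw [hj, mul_one]⟩ hxO
  | succ j ih =>
    by_cases h4 : (x * x) * (x * x) = 1
    · exact ⟨x, hx, fun e => hxO ⟨hx, e⟩, h4⟩
    · exact ih (x * x) (mul_mem hx hx) (fun e => h4 e.2)
        (by rw [← pow_two, ← pow_mul, ← pow_succ']; exact hj)

/-- An element of `K` outside `Z` has no square root in `Z` of its square. -/
theorem Tower.sq_not_mem_Sq (hP : Hyp P) (h : Tower θ Z) (hW : 4 ≤ Nat.card h.Om) {k : P}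
    (hk : k ∈ h.K) (hkZ : k ∉ Z) : k * k ∉ h.Sq := by
  rintro ⟨y, hy, e⟩
  refine h.sq_mul_ne hP hW hk hkZ (inv_mem hy) ?_
  rw [sq_of_comm (mem_centralizer_iff.1 hk.1 _ (inv_mem hy)).symm, ← mul_inv_rev, ← e, mul_inv_cancel]

/-- `K / Z` is abelian. -/
theorem Tower.mul_mem_swap (h : Tower θ Z) {a b : P} (_ha : a ∈ h.K) (hb : b ∈ h.K) (hab : a * b ∈ Z) :
    b * a ∈ Z := by
  have e : b * a = ⁅a, b⁆⁻¹ * (a * b) := by simp only [commutatorElement_def]; group
  rw [e]; exact mul_mem (inv_mem (hb.2.2 a)) hab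

theorem Tower.mem_Z_of_comm_L (hP : Hyp P) (hθ : OddAct θ p) (h : Tower θ Z)
    (hfix : ∀ z ∈ Z, θ z = z) (hCK : centralizer (Z : Set P) ≤ h.K) {l : P} (hl : l ∈ h.L)
    (hc : ∀ m ∈ h.L, m * l = l * m) : l ∈ Z := by
  refine h.mem_Z_of_central (h.L_le_K hl) fun k _ => ?_
  obtain ⟨m, hm, r, hr, rfl⟩ := h.exists_decomp hP hθ hfix hCK k
  exact Commute.mul_left (hc m hm) (h.fix_comm_L hfix hr hl)

/-- `Ω₁(Z)` of order two. -/
theorem Tower.rigid_cyclic (hP : Hyp P) (hθ : OddAct θ p) (hne : θ ≠ 1) (h : Tower θ Z)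
    (hfix : ∀ z ∈ Z, θ z = z) (h2 : Nat.card h.Om = 2) : Rigid P := by
  classical
  haveI : Fact (Nat.Prime 2) := ⟨Nat.prime_two⟩
  obtain ⟨c, hcO, hc1⟩ : ∃ c ∈ h.Om, c ≠ 1 := by
    by_contra hno
    push Not at hno
    rw [(eq_bot_iff_forall h.Om).2 hno, card_bot] at h2
    omega
  have hOc : ∀ w ∈ h.Om, w = 1 ∨ w = c := fun w hw => eq_or_eq_of_card_two h2 hcO hc1 hw
  have hOm : ∀ w ∈ h.Om, ∀ s : P, s * w = w * s := by
    haveI := h.Om_normal
    exact fun w hw s => mem_center_iff.1 (PGroup.le_center_of_card_eq hP.two h2 hw) s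
  have hcc : c ∈ center P := mem_center_iff.2 (hOm c hcO)
  have hc2 : c * c = 1 := hcO.2
  have hCK := h.cent_le_K hP hOm
  have hLsq : ∀ l ∈ h.L, l * l = 1 ∨ l * l = c := fun l hl => hOc _ (h.L_sq hfix hl)
  have hcom : ∀ a ∈ h.L, ∀ b ∈ h.L, ⁅b, a⁆ ∈ h.Om := fun a ha b hb =>
    h.comm_mem_Om (h.K_le_C (h.L_le_K hb)) (h.L_le_K ha)
  obtain ⟨k₀, hk₀, hg⟩ := h.exists_gen hP hθ hne hfix
  have hgL := h.gen_mem_L hk₀
  -- some displacement outside `Z` squares to `c`
  have hR1 : ∃ i ∈ h.L, i ∉ Z ∧ i * i = c := by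
    by_contra hno
    push Not at hno
    have h1 : ∀ x ∈ h.L, x ∉ Z → x * x = 1 := fun x hx hxZ => (hLsq x hx).resolve_right (hno x hx hxZ)
    refine hg (h.mem_Z_of_comm_L hP hθ hfix hCK hgL fun a ha => ?_)
    by_cases haZ : a ∈ Z
    · exact mem_centralizer_iff.1 (h.L_le_K hgL).1 a haZ
    by_cases habZ : a * (k₀⁻¹ * θ k₀) ∈ Z
    · have e := mem_centralizer_iff.1 (h.L_le_K ha).1 _ habZ
      rw [← mul_assoc a a (k₀⁻¹ * θ k₀), mul_assoc a] at e
      rw [mul_assoc a a] at e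
      exact (mul_left_cancel (e.trans rfl)).symm
    have hb := h1 _ hgL hg
    have hab := h1 _ (mul_mem ha hgL) habZ
    calc a * (k₀⁻¹ * θ k₀) = (a * (k₀⁻¹ * θ k₀))⁻¹ := (inv_eq_of_sq hab).symm
      _ = (k₀⁻¹ * θ k₀) * a := by rw [mul_inv_rev, inv_eq_of_sq hb, inv_eq_of_sq (h1 a ha haZ)]
  obtain ⟨i₀, hi₀, hi₀Z, hi₀2⟩ := hR1
  have hcomL : ∀ l ∈ h.L, ∀ t : P, ⁅t, l⁆ ∈ h.Om := by
    intro l hl t
    obtain ⟨m, hm, r, hr, rfl⟩ := h.exists_decomp hP hθ hfix hCK t
    rw [mul_comm_left, commutatorElement_eq_one_iff_mul_comm.2 (h.fix_comm_L hfix hr hl), mul_one,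
      mul_inv_cancel, one_mul]
    exact hcom l hl m hm
  have hroot : ∀ l ∈ h.L, ∃ i ∈ h.L, Commute i l ∧ i * i = c := by
    intro l hl
    by_cases hlZ : l ∈ Z
    · exact ⟨i₀, hi₀, (mem_centralizer_iff.1 (h.L_le_K hi₀).1 l hlZ).symm, hi₀2⟩
    rcases hLsq l hl with hl2 | hl2
    swap
    · exact ⟨l, hl, Commute.refl l, hl2⟩
    by_contra hno
    push Not at hno
    have hi1 : ∀ i ∈ h.L, Commute i l → i * i = 1 := fun i hi hil =>
      (hLsq i hi).resolve_right (hno i hi hil)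
    have hbound : ∀ i ∈ h.L, Commute i l → i = 1 ∨ i = c ∨ i = l ∨ i = l * c := by
      intro i hi hil
      by_contra hne4
      push Not at hne4
      let S : Set P := {c, l, i}
      have hcl : ∀ {x : P}, x ∈ h.Om → x ∈ closure S := fun {x} hx => by
        rcases hOc x hx with rfl | rfl
        · exact one_mem _
        · exact subset_closure (by simp [S])
      have hle := hP.card_closure_le S (by
          rintro x (e | e | e) <;> rw [e]
          exacts [hc2, hl2, hi1 i hi hil])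
        (by
          rintro x (e | e | e) y (e' | e' | e') <;> rw [e, e']
          all_goals first
            | rfl
            | exact hil.eq
            | exact hil.eq.symm
            | exact hOm _ hcO _
            | exact (hOm _ hcO _).symm)
        (by
          rintro x (e | e | e) t <;> rw [e]
          · rw [commutatorElement_eq_one_iff_mul_comm.2 (hOm _ hcO t)]; exact one_mem _
          · exact hcl (hcomL _ hl t)
          · exact hcl (hcomL _ hi t))
      have hsub : (({1, c, l, l * c, i} : Finset P) : Set P) ⊆ closure S := by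
        intro x hx
        simp only [Finset.coe_insert, Finset.coe_singleton, Set.mem_insert_iff, Set.mem_singleton_iff] at hx
        rcases hx with e' | e' | e' | e' | e' <;> rw [e', SetLike.mem_coe]
        exacts [one_mem _, subset_closure (by simp [S]), subset_closure (by simp [S]),
          mul_mem (subset_closure (by simp [S])) (subset_closure (by simp [S])), subset_closure (by simp [S])]
      have h5 := Nat.card_mono (Set.toFinite (closure S : Set P)) hsub
      have hl1 : l ≠ 1 := fun e => hlZ (e ▸ one_mem Z)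
      have hlc : l ≠ c := fun e => hlZ (e ▸ hcO.1)
      have hlc1 : l * c ≠ 1 := fun e => hlc (by rw [eq_inv_of_mul_eq_one_left e, inv_eq_of_sq hc2])
      have hlcc : l * c ≠ c := fun e => hl1 (mul_eq_right.1 e)
      have hlcl : l * c ≠ l := fun e => hc1 (mul_eq_left.1 e)
      rw [Nat.card_coe_set_eq, Set.ncard_coe_finset,
        Finset.card_insert_of_notMem (by simp [hc1.symm, hl1.symm, hlc1.symm, hne4.1.symm]),
        Finset.card_insert_of_notMem (by simp [hlc.symm, hlcc.symm, hne4.2.1.symm]),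
        Finset.card_insert_of_notMem (by simp [hlcl.symm, hne4.2.2.1.symm]),
        Finset.card_pair hne4.2.2.2.symm] at h5
      change 2 + 1 + 1 + 1 ≤ Nat.card (closure S) at h5
      omega
    have hmod : ∀ x ∈ h.L, Commute x l → x ∉ Z → l⁻¹ * x ∈ Z := by
      intro x hx hxl hxZ
      rcases hbound x hx hxl with rfl | rfl | rfl | rfl
      · exact absurd (one_mem Z) hxZ
      · exact absurd hcO.1 hxZ
      · rw [inv_mul_cancel]; exact one_mem Z
      · rw [inv_mul_cancel_left]; exact hcO.1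
    have hθlZ : θ l ∉ Z := fun e => hlZ (mem_of_map_mem h.inv e)
    have haL := h.L_inv hl
    have hbL := h.L_inv haL
    have hal : ⁅θ l, l⁆ = c := (hOc _ (hcom l hl _ haL)).resolve_left fun e =>
      hlZ (h.L_free hP hθ hfix hCK hl (hmod _ haL (commute_of_comm_eq_one e) hθlZ))
    have hbl : ⁅θ (θ l), l⁆ = c := (hOc _ (hcom l hl _ hbL)).resolve_left fun e => by
      haveI := h.normal
      exact hlZ (h.L_free hP hθ hfix hCK hl (hθ.mod_fixed Z h.inv
        (hmod _ hbL (commute_of_comm_eq_one e) fun e' => hθlZ (mem_of_map_mem h.inv e'))))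
    have hba : ⁅θ (θ l), θ l⁆ = c := by
      rw [← map_commutatorElement, hal]; exact hfix c hcO.1
    have hm : ⁅θ l * θ (θ l), l⁆ = 1 := by
      rw [h.comm_C_mul (h.K_le_C (h.L_le_K haL)) (h.L_le_K hl), hal, hbl, hc2]
    have h1 := hi1 _ (mul_mem haL hbL) (commute_of_comm_eq_one hm)
    have e2 : θ l * θ l = 1 := by rw [← map_mul, hl2, map_one]
    have e3 : θ (θ l) * θ (θ l) = 1 := by rw [← map_mul, e2, map_one]
    rw [h.mul_sq_K (h.L_le_K haL) (h.L_le_K hbL), e2, e3, hba, one_mul, one_mul] at h1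
    exact hc1 h1
  refine h.rigid_of hP hθ hfix hCK hc2 hc1 hcc hLsq hroot fun r hr hr4 => ?_
  suffices hrZ : r * r ∈ Z from mem_center_iff.2 (hOm _ ⟨hrZ, hr4⟩)
  by_cases hZO : Z ≤ h.Om
  · exact h.sq_C hP (mem_centralizer_iff.2 fun z hz => (hOm z (hZO hz) r).symm)
  obtain ⟨z4, hz4, hz41, hz42⟩ := h.exists_four hP hZO
  have hz4c : z4 * z4 = c := (hOc _ ⟨mul_mem hz4 hz4, hz42⟩).resolve_left hz41
  have hcS : c ∈ h.Sq := ⟨z4, hz4, hz4c⟩
  have hOS : h.Om ≤ h.Sq := fun w hw => by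
    rcases hOc w hw with rfl | rfl
    exacts [one_mem _, hcS]
  have hN : Nat.card Z ≤ 2 * Nat.card h.Nsub := by
    rw [← h.card_Sq_mul_card_Om, h2, mul_comm]
    exact Nat.mul_le_mul_left 2 (card_le_of_le h.Sq_le_Nsub)
  have hno : ∀ d : P, θ d = d → d ∉ Z → d * d = 1 →
      (∀ z ∈ Z, (z * z) * (z * z) = 1 → d * z * d⁻¹ = z) → (∀ t : P, ⁅t, d⁆ ∈ h.Om) → False := by
    intro d hdf hdZ hd2 hdQ hdt
    set e := i₀ * z4 with he
    have hiz : Commute i₀ z4 := (mem_centralizer_iff.1 (h.L_le_K hi₀).1 z4 hz4).symm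
    have he2 : e * e = 1 := by rw [he, sq_of_comm hiz, hi₀2, hz4c, hc2]
    have hdz : Commute d z4 := by
      have := hdQ z4 hz4 hz42
      exact (eq_mul_of_mul_inv_eq this :)
    have hde : Commute d e := Commute.mul_right (h.fix_comm_L hfix hdf hi₀) hdz
    have het : ∀ t : P, ⁅t, e⁆ ∈ h.Om := fun t => by
      rw [he, h.comm_K_mul (h.L_le_K hi₀) (h.Z_le_K hz4)]
      refine mul_mem (hcomL i₀ hi₀ t) ⟨(h.Z_le_K hz4).2.2 t, ?_⟩
      rw [← h.comm_Z_mul t hz4 hz4, hz4c, commutatorElement_eq_one_iff_mul_comm]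
      exact hOm c hcO t
    let S : Set P := {c, e, d}
    have hcl : ∀ {x : P}, x ∈ h.Om → x ∈ closure S := fun {x} hx => by
      rcases hOc x hx with rfl | rfl
      · exact one_mem _
      · exact subset_closure (by simp [S])
    have hle := hP.card_closure_le S (by
        rintro x (e' | e' | e') <;> rw [e']
        exacts [hc2, he2, hd2])
      (by
        rintro x (e | e | e) y (e' | e' | e') <;> rw [e, e']
        all_goals first
          | rfl
          | exact hde.eq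
          | exact hde.eq.symm
          | exact hOm _ hcO _
          | exact (hOm _ hcO _).symm)
      (by
        rintro x (e | e | e) t <;> rw [e]
        · rw [commutatorElement_eq_one_iff_mul_comm.2 (hOm _ hcO t)]; exact one_mem _
        · exact hcl (het t)
        · exact hcl (hdt t))
    have hsub : (({1, c, e, e * c, d} : Finset P) : Set P) ⊆ closure S := by
      intro x hx
      simp only [Finset.coe_insert, Finset.coe_singleton, Set.mem_insert_iff, Set.mem_singleton_iff] at hx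
      rcases hx with e' | e' | e' | e' | e' <;> rw [e', SetLike.mem_coe]
      exacts [one_mem _, subset_closure (by simp [S]), subset_closure (by simp [S]),
        mul_mem (subset_closure (by simp [S])) (subset_closure (by simp [S])), subset_closure (by simp [S])]
    have h5 := Nat.card_mono (Set.toFinite (closure S : Set P)) hsub
    have heZ : e ∉ Z := fun e' => hi₀Z (by simpa [he] using mul_mem e' (inv_mem hz4))
    have hecZ : e * c ∉ Z := fun e' => heZ (by simpa using mul_mem e' (inv_mem hcO.1))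
    have hnf : ∀ x : P, θ x = x → x ≠ e ∧ x ≠ e * c := by
      intro x hx
      have key : θ e ≠ e := fun e' => hi₀Z (h.L_free hP hθ hfix hCK hi₀ (by
        rw [he, map_mul, hfix z4 hz4] at e'
        rw [mul_right_cancel e', inv_mul_cancel]; exact one_mem Z))
      refine ⟨fun e' => key (e' ▸ hx), fun e' => key ?_⟩
      rw [e', map_mul, hfix c hcO.1] at hx
      exact mul_right_cancel hx
    rw [Nat.card_coe_set_eq, Set.ncard_coe_finset,
      Finset.card_insert_of_notMem (by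
        simp only [Finset.mem_insert, Finset.mem_singleton, not_or]
        exact ⟨hc1.symm, fun e' => heZ (e' ▸ one_mem Z), fun e' => hecZ (e' ▸ one_mem Z),
          fun e' => hdZ (e' ▸ one_mem Z)⟩),
      Finset.card_insert_of_notMem (by
        simp only [Finset.mem_insert, Finset.mem_singleton, not_or]
        exact ⟨fun e' => heZ (e' ▸ hcO.1), fun e' => hecZ (e' ▸ hcO.1), fun e' => hdZ (e' ▸ hcO.1)⟩),
      Finset.card_insert_of_notMem (by
        simp only [Finset.mem_insert, Finset.mem_singleton, not_or]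
        exact ⟨fun e' => hc1 (mul_eq_left.1 e'.symm), (hnf d hdf).1.symm⟩),
      Finset.card_pair (hnf d hdf).2.symm] at h5
    change 2 + 1 + 1 + 1 ≤ Nat.card (closure S) at h5
    omega
  have hKf : ∀ k ∈ h.K, θ k = k → k ∈ Z := by
    refine fun k hk hkf => h.fix_K_le hP hθ hfix hCK hN (fun k hk hkf hkZ => ?_) hk hkf
    rintro ⟨_, hy, w, hw, e⟩
    obtain ⟨y, hy, e'⟩ := mul_mem hy (hOS hw)
    rw [e] at e'
    have hky : k * y⁻¹ ∈ h.K := mul_mem hk (h.Z_le_K (inv_mem hy))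
    have hd2 : (k * y⁻¹) * (k * y⁻¹) = 1 := by
      rw [sq_of_comm (mem_centralizer_iff.1 hk.1 _ (inv_mem hy)).symm, ← mul_inv_rev, e', mul_inv_cancel]
    refine hno (k * y⁻¹) (by rw [map_mul, hkf, hfix _ (inv_mem hy)])
      (fun e' => hkZ (by simpa using mul_mem e' hy)) hd2 (fun z hz _ => h.conj_K hky hz)
      fun t => ⟨hky.2.2 t, ?_⟩
    have h1 : (⁅t, k * y⁻¹⁆ * (k * y⁻¹)) * (⁅t, k * y⁻¹⁆ * (k * y⁻¹)) = 1 := by
      rw [show ⁅t, k * y⁻¹⁆ * (k * y⁻¹) = t * (k * y⁻¹) * t⁻¹ by simp only [commutatorElement_def]; group,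
        show t * (k * y⁻¹) * t⁻¹ * (t * (k * y⁻¹) * t⁻¹) = t * ((k * y⁻¹) * (k * y⁻¹)) * t⁻¹ by group, hd2,
        mul_one, mul_inv_cancel]
    rwa [sq_of_comm (mem_centralizer_iff.1 hky.1 _ (hky.2.2 t)), hd2, mul_one] at h1
  exact h.sq_fix_mem hP hθ hfix hOm hN hKf hno hr hr4

/-- `Ω₁(Z)` of order four, `Z` of exponent at least four. -/
theorem Tower.rigid_big (hP : Hyp P) (hθ : OddAct θ p) (hne : θ ≠ 1) (h : Tower θ Z)
    (hfix : ∀ z ∈ Z, θ z = z) (h4 : Nat.card h.Om = 4) (hZO : ¬ Z ≤ h.Om) : Rigid P := by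
  classical
  obtain ⟨z4, hz4, hz41, hz42⟩ := h.exists_four hP hZO
  obtain ⟨k₀, hk₀, hgZ⟩ := h.exists_gen hP hθ hne hfix
  set a := k₀⁻¹ * θ k₀ with ha_def
  have haL : a ∈ h.L := h.gen_mem_L hk₀
  have haK := h.L_le_K haL
  set z₁ := z4 * z4 with hz₁_def
  have hz₁O : z₁ ∈ h.Om := ⟨mul_mem hz4 hz4, hz42⟩
  have hz₁M : z₁ ∈ h.Om ⊓ h.Sq := ⟨hz₁O, h.sq_mem_Sq hz4⟩
  have hsqn : ∀ k ∈ h.K, k ∉ Z → k * k ∉ h.Sq := fun k hk hkZ => h.sq_not_mem_Sq hP h4.ge hk hkZ
  have haO : a * a ∈ h.Om := h.L_sq hfix haL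
  have hM2 : Nat.card (h.Om ⊓ h.Sq : Subgroup P) = 2 := by
    have hd : Nat.card (h.Om ⊓ h.Sq : Subgroup P) ∣ 4 := h4 ▸ card_dvd_of_le inf_le_left
    have hne4 : Nat.card (h.Om ⊓ h.Sq : Subgroup P) ≠ 4 := fun e => by
      have heq : h.Om ⊓ h.Sq = h.Om := eq_of_le_of_card_ge inf_le_left (by rw [e, h4])
      have h' : a * a ∈ h.Om ⊓ h.Sq := heq.symm ▸ haO
      exact hsqn a haK hgZ h'.2
    have hne1 : Nat.card (h.Om ⊓ h.Sq : Subgroup P) ≠ 1 := fun e => hz41 (mem_bot.1
      ((card_eq_one.1 e) ▸ hz₁M))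
    have := Nat.le_of_dvd (by norm_num) hd
    have := Nat.card_pos (α := (h.Om ⊓ h.Sq : Subgroup P))
    interval_cases (Nat.card (h.Om ⊓ h.Sq : Subgroup P)) <;> omega
  have hOO : ∀ {u v : P}, u ∈ h.Om → v ∈ h.Om → u ∉ h.Sq → v ∉ h.Sq → u * v ∈ h.Sq :=
    fun {u v} hu hv hu' hv' => (mul_mem_of_card_le inf_le_left (by rw [h4, hM2]) hu hv
      (fun e => hu' e.2) (fun e => hv' e.2)).2
  have hOm : ∀ w ∈ h.Om, ∀ s : P, s * w = w * s := by
    intro w hw s
    obtain ⟨c0, hc0, hr⟩ := h.exists_fix_coset hP hθ hfix s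
    set r := s * c0 with hr_def
    have h1 : r * z₁ = z₁ * r := by
      have hm : r * z₁ * r⁻¹ ∈ h.Om ⊓ h.Sq := ⟨h.Om_normal.conj_mem _ hz₁O r, h.Sq_conj hz₁M.2 r⟩
      rcases eq_or_eq_of_card_two hM2 hz₁M hz41 hm with e | e
      · exact absurd (conj_eq_one_iff.1 e) hz41
      · exact eq_mul_of_mul_inv_eq e
    have h2 : r * (a * a) = (a * a) * r :=
      Commute.mul_right (h.fix_comm_L hfix hr haL) (h.fix_comm_L hfix hr haL)
    have h3 : Commute r w := by
      by_cases hwS : w ∈ h.Sq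
      · rcases eq_or_eq_of_card_two hM2 hz₁M hz41 ⟨hw, hwS⟩ with rfl | rfl
        exacts [Commute.one_right r, h1]
      · have hm : w * (a * a) ∈ h.Om ⊓ h.Sq := ⟨mul_mem hw haO, hOO hw haO hwS (hsqn a haK hgZ)⟩
        have e : w = (w * (a * a)) * (a * a)⁻¹ := by group
        rcases eq_or_eq_of_card_two hM2 hz₁M hz41 hm with e' | e' <;> rw [e, e']
        · rw [one_mul]; exact Commute.inv_right h2
        · exact Commute.mul_right h1 (Commute.inv_right h2)
    have h4' : Commute c0 w := (mem_centralizer_iff.1 hc0 w hw.1).symm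
    have h5 : Commute (r * c0⁻¹) w := Commute.mul_left h3 h4'.inv_left
    rwa [hr_def, mul_inv_cancel_right] at h5
  have hCK := h.cent_le_K hP hOm
  have hN : Nat.card Z ≤ 2 * Nat.card h.Nsub := by
    have hlt : h.Sq < h.Nsub := lt_of_le_of_ne h.Sq_le_Nsub fun e =>
      hsqn a haK hgZ (e ▸ h.Om_le_Nsub haO)
    obtain ⟨m, hm⟩ := card_dvd_of_le hlt.le
    have h2 : Nat.card h.Sq < Nat.card h.Nsub := Set.Finite.card_lt_card (Set.toFinite _) hlt
    rw [← h.card_Sq_mul_card_Om, h4, hm]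
    have : 2 ≤ m := by
      by_contra hlt'
      interval_cases m <;> omega
    calc Nat.card h.Sq * 4 = 2 * (Nat.card h.Sq * 2) := by ring
      _ ≤ 2 * (Nat.card h.Sq * m) := Nat.mul_le_mul_left 2 (Nat.mul_le_mul_left _ this)
  have hKf : ∀ k ∈ h.K, θ k = k → k ∈ Z := by
    refine fun k hk hkf => h.fix_K_le hP hθ hfix hCK hN (fun k hk hkf hkZ => ?_) hk hkf
    rintro ⟨y, hy, w, hw, e⟩
    by_cases hwS : w ∈ h.Sq
    · exact hsqn k hk hkZ (e ▸ mul_mem hy hwS)
    have hkaZ : k * a ∉ Z := h.gen_mul_fix hP hθ hfix hgZ hkf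
    refine hsqn _ (mul_mem hk haK) hkaZ ?_
    rw [sq_of_comm (h.fix_comm_L hfix hkf haL), ← e, mul_assoc]
    exact mul_mem hy (hOO hw haO hwS (hsqn a haK hgZ))
  set b := θ a with hb_def
  have hbL : b ∈ h.L := h.L_inv haL
  have hbK := h.L_le_K hbL
  have hbZ : b ∉ Z := fun e => hgZ (mem_of_map_mem h.inv e)
  have hab : a * b ∉ Z := fun e => hgZ (h.L_free hP hθ hfix hCK haL (by
    rw [show a⁻¹ * θ a = (a * a)⁻¹ * (a * b) by rw [hb_def]; group]
    exact mul_mem (inv_mem haK.2.1) e))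
  -- commutators of independent elements lie outside `Z²`
  have hO : ∀ u ∈ h.L, ∀ v ∈ h.L, u ∉ Z → v ∉ Z → u * v ∉ Z → ⁅v, u⁆ ∉ h.Sq := by
    intro u hu v hv huZ hvZ huvZ hin
    refine hsqn _ (h.L_le_K (mul_mem hu hv)) huvZ ?_
    rw [h.mul_sq_K (h.L_le_K hu) (h.L_le_K hv)]
    exact mul_mem (hOO (h.L_sq hfix hu) (h.L_sq hfix hv) (hsqn u (h.L_le_K hu) huZ)
      (hsqn v (h.L_le_K hv) hvZ)) hin
  have hspan : ∀ x ∈ h.L, x ∈ Z ∨ x * a ∈ Z ∨ x * b ∈ Z ∨ x * (a * b) ∈ Z := by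
    intro x hx
    have hxK := h.L_le_K hx
    by_contra hno
    push Not at hno
    obtain ⟨h0, h1, h2, h3⟩ := hno
    have hxa : ⁅x, a⁆ ∉ h.Sq := hO a haL x hx hgZ h0 fun e => h1 (h.mul_mem_swap haK hxK e)
    have hxb : ⁅x, b⁆ ∉ h.Sq := hO b hbL x hx hbZ h0 fun e => h2 (h.mul_mem_swap hbK hxK e)
    have hxab : ⁅x, a * b⁆ ∉ h.Sq := hO (a * b) (mul_mem haL hbL) x hx hab h0
      fun e => h3 (h.mul_mem_swap (mul_mem haK hbK) hxK e)
    rw [h.comm_K_mul haK hbK] at hxab
    exact hxab (hOO (h.comm_mem_Om hxK.1 haK) (h.comm_mem_Om hxK.1 hbK) hxa hxb)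
  set c := ⁅b, a⁆ with hc_def
  have hcO : c ∈ h.Om := h.comm_mem_Om hbK.1 haK
  let D : Subgroup P := zpowers c
  have hDc : ∀ {x : P}, x ∈ D → x = 1 ∨ x = c := fun {x} hx => by
    obtain ⟨n, rfl⟩ := mem_zpowers_iff.1 hx
    have hm : ∀ m : ℤ, c ^ m * c ^ m = 1 := fun m => by
      rw [← (Commute.refl c).mul_zpow, hcO.2, one_zpow]
    rcases Int.even_or_odd n with ⟨m, rfl⟩ | ⟨m, rfl⟩
    · left; rw [zpow_add, hm]
    · right; rw [zpow_add, zpow_one, two_mul, zpow_add, hm, one_mul]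
  have hDZ : D ≤ Z := zpowers_le.2 hcO.1
  have hclass : ∀ x ∈ h.K, ∃ z ∈ Z, x = z ∨ x = a * z ∨ x = b * z ∨ x = a * b * z := by
    intro x hx
    obtain ⟨l, hl, r, hr, rfl⟩ := h.exists_decomp hP hθ hfix hCK x
    have hrZ : r ∈ Z := hKf r (by simpa using mul_mem (inv_mem (h.L_le_K hl)) hx) hr
    have key : ∀ u ∈ h.K, l * u ∈ Z → ∃ z ∈ Z, l * r = u * z := fun u hu e =>
      ⟨u⁻¹ * l * r, mul_mem (by
        rw [show u⁻¹ * l = (u * u)⁻¹ * (u * l) by group]
        exact mul_mem (inv_mem hu.2.1) (h.mul_mem_swap (h.L_le_K hl) hu e)) hrZ, by group⟩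
    rcases hspan l hl with e | e | e | e
    · exact ⟨l * r, mul_mem e hrZ, Or.inl rfl⟩
    · obtain ⟨z, hz, e'⟩ := key a haK e; exact ⟨z, hz, Or.inr (Or.inl e')⟩
    · obtain ⟨z, hz, e'⟩ := key b hbK e; exact ⟨z, hz, Or.inr (Or.inr (Or.inl e'))⟩
    · obtain ⟨z, hz, e'⟩ := key (a * b) (mul_mem haK hbK) e
      exact ⟨z, hz, Or.inr (Or.inr (Or.inr e'))⟩
  have hab' : ⁅a, b⁆ = c := by
    rw [← commutatorElement_inv b a]
    exact inv_eq_of_sq hcO.2
  have hgab : ∀ x ∈ h.K, ⁅x, a⁆ ∈ D ∧ ⁅x, b⁆ ∈ D := by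
    intro x hx
    obtain ⟨z, hz, rfl | rfl | rfl | rfl⟩ := hclass x hx
    · exact ⟨by rw [h.comm_K_one haK hz]; exact one_mem D, by rw [h.comm_K_one hbK hz]; exact one_mem D⟩
    · rw [h.comm_C_mul haK.1 haK, h.comm_C_mul haK.1 hbK, h.comm_K_one haK hz, h.comm_K_one hbK hz,
        commutatorElement_self, hab', one_mul, one_mul]
      exact ⟨one_mem D, mem_zpowers c⟩
    · rw [h.comm_C_mul hbK.1 haK, h.comm_C_mul hbK.1 hbK, h.comm_K_one haK hz, h.comm_K_one hbK hz,
        commutatorElement_self, one_mul, one_mul]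
      exact ⟨mem_zpowers c, one_mem D⟩
    · rw [h.comm_C_mul (mul_mem haK hbK).1 haK, h.comm_C_mul (mul_mem haK hbK).1 hbK,
        h.comm_K_one haK hz, h.comm_K_one hbK hz, one_mul, one_mul,
        h.comm_C_mul haK.1 haK, h.comm_C_mul haK.1 hbK, commutatorElement_self, commutatorElement_self,
        hab', mul_one, one_mul]
      exact ⟨mem_zpowers c, mem_zpowers c⟩
  have hKD : ∀ x ∈ h.K, ∀ y ∈ h.K, ⁅x, y⁆ ∈ D := by
    intro x hx y hy
    obtain ⟨h1, h2⟩ := hgab x hx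
    obtain ⟨z, hz, rfl | rfl | rfl | rfl⟩ := hclass y hy
    · rw [commutatorElement_eq_one_iff_mul_comm.2 (mem_centralizer_iff.1 hx.1 _ hz).symm]; exact one_mem D
    all_goals rw [h.comm_K_mul (by first | exact haK | exact hbK | exact mul_mem haK hbK) (h.Z_le_K hz),
      commutatorElement_eq_one_iff_mul_comm.2 (mem_centralizer_iff.1 hx.1 _ hz).symm, mul_one]
    · exact h1
    · exact h2
    · rw [h.comm_K_mul haK hbK]; exact mul_mem h1 h2
  have hLsq : ∀ l ∈ h.L, l * l = 1 ∨ l * l = c := fun l hl => hDc (h.L_sq_of D hDZ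
    (fun k hk => by
      rw [h.gen_sq hfix hk]
      exact inv_mem (hKD _ (inv_mem hk) _ (mul_mem (inv_mem hk) (h.K_inv hk))))
    (fun u hu v hv => hKD v (h.L_le_K hv) u (h.L_le_K hu)) hl)
  have hroot1 : ∀ l ∈ h.L, l ∉ Z → l * l = c := fun l hl hlZ => (hLsq l hl).resolve_left fun e =>
    hsqn l (h.L_le_K hl) hlZ (e ▸ one_mem h.Sq)
  have hc1 : c ≠ 1 := fun e => hsqn a haK hgZ (by rw [hroot1 a haL hgZ, e]; exact one_mem _)
  refine h.rigid_of hP hθ hfix hCK hcO.2 hc1 (mem_center_iff.2 (hOm c hcO)) hLsq (fun l hl => ?_)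
    fun r hr hr4 => ?_
  · by_cases hlZ : l ∈ Z
    · exact ⟨a, haL, (mem_centralizer_iff.1 haK.1 l hlZ).symm, hroot1 a haL hgZ⟩
    · exact ⟨l, hl, Commute.refl l, hroot1 l hl hlZ⟩
  · suffices hrZ : r * r ∈ Z from mem_center_iff.2 (hOm _ ⟨hrZ, hr4⟩)
    refine h.sq_fix_mem hP hθ hfix hOm hN hKf (fun d _ hdZ hd2 _ hdt => ?_) hr hr4
    haveI := h.Om_normal
    exact hP.no_eight h.Om (fun x hx => hx.2) h4.ge (fun e => hdZ e.1) hd2
      (fun x hx => (hOm x hx d).symm) hdt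

/-- `Z` a four group. -/
theorem Tower.rigid_small (hP : Hyp P) (hθ : OddAct θ p) (hne : θ ≠ 1) (h : Tower θ Z)
    (hfix : ∀ z ∈ Z, θ z = z) (h4 : Nat.card h.Om = 4) (hZO : Z ≤ h.Om) :
    Rigid P ∨ Nat.card P = 128 := by
  classical
  haveI : Fact (Nat.Prime 2) := ⟨Nat.prime_two⟩
  haveI := h.normal
  have hZ4 : Nat.card Z = 4 := by rw [le_antisymm hZO h.Om_le]; exact h4
  have hZne : Z ≠ ⊥ := fun e => by rw [e, card_bot] at hZ4; omega
  obtain ⟨c, hcZ, hcc, hco⟩ := PGroup.exists_central_order_p hP.two hZne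
  have hc2 : c * c = 1 := (hZO hcZ).2
  have hc1 : c ≠ 1 := fun e => by rw [e, orderOf_one] at hco; omega
  by_cases hcent : ∀ w ∈ Z, ∀ s : P, s * w = w * s
  · left
    have hOm : ∀ w ∈ h.Om, ∀ s : P, s * w = w * s := fun w hw => hcent w hw.1
    have hK : ∀ x : P, x ∈ h.K := fun x => h.cent_le_K hP hOm
      (mem_centralizer_iff.2 fun z hz => (hcent z hz x).symm)
    refine ⟨c, hc2, hc1, hcc, fun x hx hxc => absurd ?_ hxc, fun x _ =>
      mem_center_iff.2 (hcent _ (hK x).2.1)⟩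
    refine mem_center_iff.2 (hcent x ?_)
    by_contra hxZ
    exact h.sq_mul_ne hP h4.ge (hK x) hxZ (one_mem Z) (by rw [mul_one]; exact hx)
  push Not at hcent
  obtain ⟨w₀, hw₀, t₀, hwt⟩ := hcent
  obtain ⟨c₀, hc₀, hr₀⟩ := h.exists_fix_coset hP hθ hfix t₀
  set r₀ := t₀ * c₀ with hr₀_def
  have hr₀C : r₀ ∉ centralizer (Z : Set P) := fun e => hwt
    ((mem_centralizer_iff.1 (show t₀ ∈ centralizer (Z : Set P) by
      simpa [hr₀_def] using mul_mem e (inv_mem hc₀)) w₀ hw₀).symm)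
  -- the action on the four group
  have hs : ∀ (t w : P), w ∈ Z → t * w * t⁻¹ = w ∨ t * w * t⁻¹ = w * c := by
    intro t w hw
    have hm : t * w * t⁻¹ ∈ Z := h.normal.conj_mem w hw t
    by_contra hno
    push Not at hno
    have hwc : w ≠ 1 ∧ w ≠ c := by
      refine ⟨fun e => hno.1 (by rw [e]; group), fun e => hno.1 ?_⟩
      rw [e, mem_center_iff.1 hcc t, mul_inv_cancel_right]
    have hsub : (({1, c, w, w * c, t * w * t⁻¹} : Finset P) : Set P) ⊆ Z := by
      intro x hx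
      simp only [Finset.coe_insert, Finset.coe_singleton, Set.mem_insert_iff, Set.mem_singleton_iff] at hx
      rcases hx with rfl | rfl | rfl | rfl | rfl
      exacts [one_mem _, hcZ, hw, mul_mem hw hcZ, hm]
    have h5 := Nat.card_mono (Set.toFinite (Z : Set P)) hsub
    have hlc1 : w * c ≠ 1 := fun e => hwc.2 (by rw [eq_inv_of_mul_eq_one_left e, inv_eq_of_sq hc2])
    rw [Nat.card_coe_set_eq, Set.ncard_coe_finset,
      Finset.card_insert_of_notMem (by
        simp only [Finset.mem_insert, Finset.mem_singleton, not_or]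
        exact ⟨hc1.symm, hwc.1.symm, hlc1.symm, fun e => hwc.1 (conj_eq_one_iff.1 e.symm)⟩),
      Finset.card_insert_of_notMem (by
        simp only [Finset.mem_insert, Finset.mem_singleton, not_or]
        refine ⟨hwc.2.symm, fun e => hwc.1 (mul_eq_right.1 e.symm), fun e => hwc.2 ?_⟩
        calc w = t⁻¹ * (t * w * t⁻¹) * t := by group
          _ = t⁻¹ * (c * t) := by rw [← e, mul_assoc]
          _ = c := by rw [← mem_center_iff.1 hcc t, inv_mul_cancel_left]),
      Finset.card_insert_of_notMem (by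
        simp only [Finset.mem_insert, Finset.mem_singleton, not_or]
        exact ⟨fun e => hc1 (mul_eq_left.1 e.symm), hno.1.symm⟩),
      Finset.card_pair hno.2.symm] at h5
    change 2 + 1 + 1 + 1 ≤ Nat.card Z at h5
    omega
  have hfixc : ∀ w ∈ Z, r₀ * w * r₀⁻¹ = w → w = 1 ∨ w = c := by
    intro w hw hwr
    by_contra hno
    push Not at hno
    refine hr₀C (mem_centralizer_iff.2 fun z hz => ?_)
    have hcl : ∀ u ∈ ({1, c, w, w * c} : Finset P), u * r₀ = r₀ * u := by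
      intro u hu
      have h1 : Commute w r₀ := (eq_mul_of_mul_inv_eq hwr).symm
      have h2 : Commute c r₀ := (mem_center_iff.1 hcc r₀).symm
      simp only [Finset.mem_insert, Finset.mem_singleton] at hu
      rcases hu with rfl | rfl | rfl | rfl
      exacts [(Commute.one_left r₀).eq, h2.eq, h1.eq, (h1.mul_left h2).eq]
    have hcard : ({1, c, w, w * c} : Finset P).card = 4 := by
      rw [Finset.card_insert_of_notMem (by
          simp only [Finset.mem_insert, Finset.mem_singleton, not_or]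
          exact ⟨hc1.symm, hno.1.symm, fun e => hno.2 (by rw [eq_inv_of_mul_eq_one_left e.symm, inv_eq_of_sq hc2])⟩),
        Finset.card_insert_of_notMem (by
          simp only [Finset.mem_insert, Finset.mem_singleton, not_or]
          exact ⟨hno.2.symm, fun e => hno.1 (mul_eq_right.1 e.symm)⟩),
        Finset.card_pair (fun e => hc1 (mul_eq_left.1 e.symm))]
    refine hcl z ?_
    have heq : (({1, c, w, w * c} : Finset P) : Set P) = (Z : Set P) := by
      refine Set.eq_of_subset_of_ncard_le (fun x hx => ?_) ?_ (Set.toFinite _)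
      · simp only [Finset.coe_insert, Finset.coe_singleton, Set.mem_insert_iff, Set.mem_singleton_iff] at hx
        rcases hx with rfl | rfl | rfl | rfl
        exacts [one_mem _, hcZ, hw, mul_mem hw hcZ]
      · rw [Set.ncard_coe_finset, hcard, ← Nat.card_coe_set_eq]
        exact hZ4.le
    exact Finset.mem_coe.1 (heq ▸ hz)
  -- the centraliser has index two
  have hmulC : ∀ {a b : P}, a ∉ centralizer (Z : Set P) → b ∉ centralizer (Z : Set P) →
      a * b ∈ centralizer (Z : Set P) := by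
    intro a b ha hb
    obtain ⟨u, hu, hau⟩ : ∃ u ∈ Z, ¬ u * a = a * u := by
      by_contra hno; push Not at hno; exact ha (mem_centralizer_iff.2 hno)
    obtain ⟨v, hv, hbv⟩ : ∃ v ∈ Z, ¬ v * b = b * v := by
      by_contra hno; push Not at hno; exact hb (mem_centralizer_iff.2 hno)
    refine mem_centralizer_iff.2 fun z hz => ?_
    have hnc : ∀ (t w : P), w ∈ Z → ¬ w * t = t * w → ∀ y ∈ Z, y ≠ 1 → y ≠ c →
        t * y * t⁻¹ = y * c := by
      intro t w hw htw y hy hy1 hyc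
      refine (hs t y hy).resolve_left fun e => htw ?_
      have hyt : Commute t y := eq_mul_of_mul_inv_eq e
      have hct : Commute t c := mem_center_iff.1 hcc t
      have hsub : (({1, c, y, y * c} : Finset P) : Set P) = (Z : Set P) := by
        refine Set.eq_of_subset_of_ncard_le (fun x hx => ?_) ?_ (Set.toFinite _)
        · simp only [Finset.coe_insert, Finset.coe_singleton, Set.mem_insert_iff, Set.mem_singleton_iff] at hx
          rcases hx with rfl | rfl | rfl | rfl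
          exacts [one_mem _, hcZ, hy, mul_mem hy hcZ]
        · rw [Set.ncard_coe_finset, ← Nat.card_coe_set_eq, Finset.card_insert_of_notMem (by
              simp only [Finset.mem_insert, Finset.mem_singleton, not_or]
              exact ⟨hc1.symm, hy1.symm, fun e => hyc (by rw [eq_inv_of_mul_eq_one_left e.symm, inv_eq_of_sq hc2])⟩),
            Finset.card_insert_of_notMem (by
              simp only [Finset.mem_insert, Finset.mem_singleton, not_or]
              exact ⟨hyc.symm, fun e => hy1 (mul_eq_right.1 e.symm)⟩),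
            Finset.card_pair (fun e => hc1 (mul_eq_left.1 e.symm))]
          exact hZ4.le
      have hw' : w ∈ ({1, c, y, y * c} : Finset P) := Finset.mem_coe.1 (hsub ▸ hw)
      simp only [Finset.mem_insert, Finset.mem_singleton] at hw'
      rcases hw' with rfl | rfl | rfl | rfl
      exacts [(Commute.one_left t).eq, hct.eq.symm, hyt.eq.symm, (hyt.mul_right hct).eq.symm]
    by_cases hz1 : z = 1
    · subst hz1; simp
    by_cases hzc : z = c
    · subst hzc; exact (mem_center_iff.1 hcc _).symm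
    have e1 := hnc b v hv hbv z hz hz1 hzc
    have hzc1 : z * c ≠ 1 := fun e => hzc (by rw [eq_inv_of_mul_eq_one_left e, inv_eq_of_sq hc2])
    have e2 := hnc a u hu hau (z * c) (mul_mem hz hcZ) hzc1 (fun e => hz1 (mul_eq_right.1 e))
    rw [mul_assoc z c c, hc2, mul_one] at e2
    have e3 : (a * b) * z * (a * b)⁻¹ = z := by
      calc (a * b) * z * (a * b)⁻¹ = a * (b * z * b⁻¹) * a⁻¹ := by group
        _ = z := by rw [e1, e2]
    exact (eq_mul_of_mul_inv_eq e3).symm
  have hidx : (centralizer (Z : Set P)).index = 2 := by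
    rw [index_eq_two_iff]
    refine ⟨r₀, fun b => ?_⟩
    by_cases hb : b ∈ centralizer (Z : Set P)
    · exact Or.inr ⟨hb, fun e => hr₀C (by simpa using mul_mem (inv_mem hb) e)⟩
    · exact Or.inl ⟨hmulC hb hr₀C, hb⟩
  have hP2 : Nat.card P = 2 * Nat.card (centralizer (Z : Set P)) := by
    rw [← card_mul_index (centralizer (Z : Set P)), hidx, mul_comm]
  have hC64 : Nat.card (centralizer (Z : Set P)) ≤ 64 := by
    have := hP.card_le_sixteen_mul _ Z h.le_C fun x hx => h.sq_C hP hx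
    omega
  by_cases h64 : Nat.card (centralizer (Z : Set P)) = 64
  · exact Or.inr (by omega)
  left
  have hC32 : Nat.card (centralizer (Z : Set P)) ≤ 32 := by
    obtain ⟨j, hj⟩ := IsPGroup.iff_card.1 (hP.two.to_subgroup (centralizer (Z : Set P)))
    rw [hj] at h64 hC64 ⊢
    have hj6 : j ≤ 6 := by
      by_contra hlt
      have : 2 ^ 7 ≤ 2 ^ j := Nat.pow_le_pow_right (by norm_num) (by omega)
      omega
    interval_cases j <;> simp_all
  -- squares on `K` are fixed by `r₀`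
  have hKsq : ∀ k ∈ h.K, k * k = 1 ∨ k * k = c := by
    intro k hk
    refine hfixc _ hk.2.1 ?_
    have hz : ⁅r₀, k⁆ ∈ Z := hk.2.2 r₀
    calc r₀ * (k * k) * r₀⁻¹ = (⁅r₀, k⁆ * k) * (⁅r₀, k⁆ * k) := by
          simp only [commutatorElement_def]; group
      _ = k * k := by rw [sq_of_comm (mem_centralizer_iff.1 hk.1 _ hz), (hZO hz).2, one_mul]
  have hKc : ∀ k ∈ h.K, k ∉ Z → k * k = c := fun k hk hkZ => (hKsq k hk).resolve_left fun e =>
    h.sq_mul_ne hP h4.ge hk hkZ (one_mem Z) (by rw [mul_one]; exact e)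
  obtain ⟨k₁, hk₁, hgZ⟩ := h.exists_gen hP hθ hne hfix
  have haL := h.gen_mem_L hk₁
  have haK := h.L_le_K haL
  have hKf : ∀ k ∈ h.K, θ k = k → k ∈ Z := by
    intro k hk hkf
    by_contra hkZ
    refine h.sq_mul_ne hP h4.ge (mul_mem hk haK) (h.gen_mul_fix hP hθ hfix hgZ hkf) (one_mem Z) ?_
    rw [mul_one, sq_of_comm (h.fix_comm_L hfix hkf haL), hKc k hk hkZ, hKc _ haK hgZ, hc2]
  have hCC : ∀ {x y : P}, x ∈ centralizer (Z : Set P) → y ∈ centralizer (Z : Set P) → ⁅x, y⁆ ∈ Z :=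
    fun hx hy => (h.comm_C_C hP hx hy).1
  have hr₀2 : r₀ * r₀ ∈ centralizer (Z : Set P) := hmulC hr₀C hr₀C
  have heC : ∀ k ∈ centralizer (Z : Set P), ⁅r₀, k⁆ ∈ centralizer (Z : Set P) := fun k hk => by
    rw [commutatorElement_def]
    exact mul_mem (h.C_normal.conj_mem k hk r₀) (inv_mem hk)
  have htK : ∀ {k : P}, k ∈ centralizer (Z : Set P) → ⁅r₀, k⁆ ∈ Z → k ∈ h.K := by
    intro k hk hkr
    refine ⟨hk, h.sq_C hP hk, fun t => ?_⟩
    by_cases ht : t ∈ centralizer (Z : Set P)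
    · exact hCC ht hk
    have ht' : t * r₀⁻¹ ∈ centralizer (Z : Set P) := hmulC ht fun e => hr₀C (by simpa using inv_mem e)
    rw [show t = (t * r₀⁻¹) * r₀ by group, mul_comm_left]
    exact mul_mem (h.normal.conj_mem _ hkr _) (hCC ht' hk)
  have heK : ∀ k ∈ centralizer (Z : Set P), ⁅r₀, k⁆ ∈ h.K := by
    intro k hk
    refine htK (heC k hk) ?_
    have h1 : ⁅r₀ * r₀, k⁆ ∈ Z := hCC hr₀2 hk
    rw [mul_comm_left] at h1
    have e : ⁅r₀, ⁅r₀, k⁆⁆ = (r₀ * ⁅r₀, k⁆ * r₀⁻¹ * ⁅r₀, k⁆) * (⁅r₀, k⁆ * ⁅r₀, k⁆)⁻¹ := by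
      simp only [commutatorElement_def]; group
    rw [e]
    exact mul_mem h1 (inv_mem (h.sq_C hP (heC k hk)))
  let f : ↥(centralizer (Z : Set P)) →* P ⧸ Z :=
    MonoidHom.mk' (fun k => QuotientGroup.mk' Z ⁅r₀, (k : P)⁆) fun k k' => by
      rw [Subgroup.coe_mul, comm_mul, map_mul]
      congr 1
      refine (QuotientGroup.eq.2 ?_ : ((_ : P) : P ⧸ Z) = _)
      rw [show ((k : P) * ⁅r₀, (k' : P)⁆ * (k : P)⁻¹)⁻¹ * ⁅r₀, (k' : P)⁆ =
        ⁅(k : P), ⁅r₀, (k' : P)⁆⁻¹⁆ by simp only [commutatorElement_def]; group]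
      exact hCC k.2 (inv_mem (heC _ k'.2))
  have hmf : ∀ x : ↥(centralizer (Z : Set P)), f x = QuotientGroup.mk' Z ⁅r₀, (x : P)⁆ := fun _ => rfl
  have hker : f.ker = h.K.subgroupOf (centralizer (Z : Set P)) := by
    ext ⟨k, hk⟩
    rw [MonoidHom.mem_ker, mem_subgroupOf, hmf, QuotientGroup.mk'_apply, QuotientGroup.eq_one_iff]
    exact ⟨htK hk, fun e => e.2.2 r₀⟩
  have hrange : f.range ≤ h.K.map (QuotientGroup.mk' Z) := by
    rintro _ ⟨⟨k, hk⟩, rfl⟩
    exact mem_map_of_mem _ (heK k hk)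
  have hsmall : Nat.card f.range ≤ 2 := by
    have h1 : Nat.card f.ker * Nat.card f.range = Nat.card (centralizer (Z : Set P)) := by
      rw [← index_ker, card_mul_index]
    rw [hker, Nat.card_congr (subgroupOfEquivOfLe h.K_le_C).toEquiv] at h1
    have h2 : Nat.card (h.K.map (QuotientGroup.mk' Z)) * Nat.card Z = Nat.card h.K := by
      have := Cores.card_map_mul_ker (QuotientGroup.mk' Z) h.K (by rw [QuotientGroup.ker_mk']; exact h.Z_le_K)
      rwa [QuotientGroup.ker_mk'] at this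
    have h3 := card_le_of_le hrange
    rw [← h1, ← h2, hZ4] at hC32
    by_contra hgt
    have : 3 * 3 ≤ Nat.card (h.K.map (QuotientGroup.mk' Z)) * Nat.card f.range :=
      Nat.mul_le_mul (by omega) (by omega)
    nlinarith
  have hCK : centralizer (Z : Set P) ≤ h.K := by
    intro k hk
    refine htK hk ?_
    by_contra heZ
    have hθe : θ ⁅r₀, k⁆ = ⁅r₀, θ k⁆ := by rw [map_commutatorElement, hr₀]
    have h1 : f ⟨k, hk⟩ ≠ 1 := fun e => heZ ((QuotientGroup.eq_one_iff _).1 e)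
    have h2 : f ⟨θ k, h.C_inv hk⟩ ≠ 1 := fun e => heZ (mem_of_map_mem h.inv
      (hθe ▸ (QuotientGroup.eq_one_iff _).1 e))
    have hr2 : Nat.card f.range = 2 := by
      refine le_antisymm hsmall ?_
      haveI : Nontrivial f.range :=
        ⟨⟨f ⟨k, hk⟩, _, rfl⟩, 1, fun e => h1 (congrArg Subtype.val e)⟩
      exact Finite.one_lt_card
    have heq : f ⟨k, hk⟩ = f ⟨θ k, h.C_inv hk⟩ :=
      ((eq_or_eq_of_card_two hr2 ⟨_, rfl⟩ h1 ⟨_, rfl⟩).resolve_left h2).symm
    rw [hmf, hmf, QuotientGroup.mk'_apply, QuotientGroup.mk'_apply, QuotientGroup.eq] at heq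
    simp only [← hθe] at heq
    exact heZ (hKf _ (heK k hk)
      (hθ.fixed_of_twist hP.two (mul_inv_cancel_left _ _).symm (hfix _ heq)))
  refine h.rigid_of hP hθ hfix hCK hc2 hc1 hcc (fun l hl => hKsq l (h.L_le_K hl)) (fun l hl => ?_)
    fun r hr _ => ?_
  · by_cases hlZ : l ∈ Z
    · exact ⟨_, haL, (mem_centralizer_iff.1 haK.1 l hlZ).symm, hKc _ haK hgZ⟩
    · exact ⟨l, hl, Commute.refl l, hKc l (h.L_le_K hl) hlZ⟩
  · by_cases hrC : r ∈ centralizer (Z : Set P)
    · rw [(hZO (hKf r (hCK hrC) hr)).2]; exact one_mem _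
    have h2 : r * r ∈ Z := hKf _ (hCK (hmulC hrC hrC)) (by rw [map_mul, hr])
    have hrr : r₀⁻¹ * r ∈ centralizer (Z : Set P) :=
      hmulC (fun e => hr₀C (by simpa using inv_mem e)) hrC
    rcases hfixc (r * r) h2 (by
      have h3 : Commute (r₀⁻¹ * r) (r * r) := (mem_centralizer_iff.1 hrr _ h2).symm
      have h4 : Commute r (r * r) := by unfold Commute SemiconjBy; group
      have h5 : Commute r₀ (r * r) := by
        have := (h4.mul_left h3.inv_left)
        rwa [mul_inv_rev, inv_inv, mul_inv_cancel_left] at this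
      rw [h5.eq, mul_inv_cancel_right]) with e | e <;> rw [e]
    exacts [one_mem _, hcc]

/-- The summary. -/
theorem Tower.fixed_case (hP : Hyp P) (hθ : OddAct θ p) (hne : θ ≠ 1) (h : Tower θ Z)
    (hfix : ∀ z ∈ Z, θ z = z) : Rigid P ∨ Nat.card P = 128 := by
  have hle := h.card_Om_le hP
  have hpos : 2 ≤ Nat.card h.Om := by
    haveI : Fact (Nat.Prime 2) := ⟨Nat.prime_two⟩
    by_cases hZO : Z ≤ h.Om
    · obtain ⟨k, hk, hkZ⟩ := h.exists_gen hP hθ hne hfix
      by_contra hlt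
      have hO1 : h.Om = ⊥ := eq_bot_of_card_le _ (by omega)
      have hZ1 : Z = ⊥ := eq_bot_iff.2 (hO1 ▸ hZO)
      have hOm : ∀ w ∈ h.Om, ∀ s : P, s * w = w * s := fun w hw s => by
        rw [hO1, mem_bot] at hw; subst hw; simp
      obtain ⟨z, hzc, hzo⟩ : ∃ z ∈ center P, orderOf z = 2 := by
        haveI : Nontrivial P := ⟨⟨k⁻¹ * θ k, 1, fun e => hkZ (e ▸ one_mem Z)⟩⟩
        obtain ⟨z, -, hzc, hzo⟩ := PGroup.exists_central_order_p hP.two (N := (⊤ : Subgroup P)) top_ne_bot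
        exact ⟨z, hzc, hzo⟩
      have hzZ : z ∈ Z := h.mem_Z_of_comm hP fun x _ => mem_center_iff.1 hzc x
      rw [hZ1, mem_bot] at hzZ
      rw [hzZ, orderOf_one] at hzo
      omega
    · obtain ⟨z, hz, hz1, hz4⟩ := h.exists_four hP hZO
      haveI : Nontrivial h.Om :=
        ⟨⟨z * z, mul_mem hz hz, hz4⟩, 1, fun e => hz1 (congrArg Subtype.val e)⟩
      exact Finite.one_lt_card
  obtain ⟨j, hj⟩ := IsPGroup.iff_card.1 (hP.two.to_subgroup h.Om)
  have hjj : Nat.card h.Om = 2 ∨ Nat.card h.Om = 4 := by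
    rcases j with _ | _ | _ | j
    · omega
    · left; omega
    · right; omega
    · have : 2 ^ 3 ≤ 2 ^ (j + 3) := Nat.pow_le_pow_right (by norm_num) (by omega)
      omega
  rcases hjj with h2 | h4
  · exact Or.inl (h.rigid_cyclic hP hθ hne hfix h2)
  · by_cases hZO : Z ≤ h.Om
    · exact h.rigid_small hP hθ hne hfix h4 hZO
    · exact Or.inl (h.rigid_big hP hθ hne hfix h4 hZO)

end Cfsg.Agent.NormalRankTwoOdd
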