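import Cfsg.Agent.Lib.NormalRankTwoOdd.Moved
import Cfsg.Agent.Lib.NormEven.Tools
import Cfsg.Agent.Lib.AbelianSylowTwo.RankTwo
import Cfsg.Agent.S0949

/-!
# Simple groups with normal 2-rank two and an extra odd automiser (helper73)

* `rigid_false`: `Rigid` contradicts the `Z*`-theorem
* `split_false`: `Split` contradicts Thompson transfer and Sylow's theorem
* `abelian_card`: an abelian `T` has order four
* `order_eq`: `|T| ∈ {4, 64, 128}`
-/

set_option autoImplicit false
set_option linter.style.haveILetI false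
set_option linter.unusedSectionVars false

open Subgroup
open scoped commutatorElement

namespace Cfsg.Agent.NormalRankTwoOdd

universe u

variable {G : Type u} [Group G] [Finite G] [IsSimpleGroup G] {T : Sylow 2 G}

/-- `Rigid` together with pairwise nonconjugate central involutions is impossible. -/
theorem rigid_false (hna : ¬ IsMulCommutative G) (hR : Rigid ↥(T : Subgroup G))
    (hcentral : ∀ x y : ↥(T : Subgroup G), x ∈ center _ → y ∈ center _ → x * x = 1 →
      ∀ g : G, g * (x : G) * g⁻¹ = y → x = y) : False := by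
  obtain ⟨c, hc2, hc1, hcc, hinv, hsq⟩ := hR
  have hco : orderOf (c : G) = 2 :=
    Involution.orderOf_of_sq (congrArg Subtype.val hc2) (fun e => hc1 (Subtype.ext e))
  have hTc : ∀ x ∈ (T : Subgroup G), Commute x (c : G) := fun x hx =>
    congrArg Subtype.val (mem_center_iff.1 hcc ⟨x, hx⟩)
  refine NormEven.isolated_contra hna T hco c.2 fun g hg => ?_
  by_contra hne
  set x : ↥(T : Subgroup G) := ⟨g * (c : G) * g⁻¹, hg⟩ with hxdef
  by_cases hxc : x ∈ center _
  · exact hne (congrArg Subtype.val (hcentral c x hcc hxc hc2 g rfl)).symm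
  have hcsq : (c : G) * c = 1 := congrArg Subtype.val hc2
  have hx2 : x * x = 1 := Subtype.ext (by
    show g * (c : G) * g⁻¹ * (g * (c : G) * g⁻¹) = 1
    rw [show g * (c : G) * g⁻¹ * (g * (c : G) * g⁻¹) = g * ((c : G) * c) * g⁻¹ by group, hcsq, mul_one,
      mul_inv_cancel])
  obtain ⟨i, hix, hi2⟩ := hinv x hx2 hxc
  -- Sylow's theorem in the centraliser of `c`
  have hS : IsPGroup 2 (zpowers (g⁻¹ * (i : G) * g)) := by
    obtain ⟨k, hk⟩ := T.isPGroup' i
    have h1 : (g⁻¹ * (i : G) * g) ^ (2 ^ k) = 1 := by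
      have := congrArg Subtype.val hk
      rw [SubmonoidClass.coe_pow] at this
      calc (g⁻¹ * (i : G) * g) ^ (2 ^ k) = g⁻¹ * (i : G) ^ (2 ^ k) * (g⁻¹)⁻¹ := by
            rw [← conj_pow, inv_inv]
        _ = 1 := by rw [this, OneMemClass.coe_one, mul_one, inv_inv, inv_mul_cancel]
    obtain ⟨l, -, hl⟩ := (Nat.dvd_prime_pow Nat.prime_two).1 (orderOf_dvd_of_pow_eq_one h1)
    exact IsPGroup.of_card (n := l) (by rw [Nat.card_zpowers, hl])
  have hSc : ∀ y ∈ zpowers (g⁻¹ * (i : G) * g), Commute y (c : G) := by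
    intro y hy
    obtain ⟨k, rfl⟩ := mem_zpowers_iff.1 hy
    refine Commute.zpow_left ?_ k
    have h1 : Commute (i : G) (g * (c : G) * g⁻¹) := congrArg Subtype.val hix.eq
    calc g⁻¹ * (i : G) * g * c = g⁻¹ * ((i : G) * (g * (c : G) * g⁻¹)) * g := by group
      _ = g⁻¹ * ((g * (c : G) * g⁻¹) * (i : G)) * g := by rw [h1.eq]
      _ = _ := by group
  obtain ⟨d, hd, hdS⟩ := NormEven.exists_conj_cent T hTc hS hSc
  set i' : ↥(T : Subgroup G) := ⟨d * (g⁻¹ * (i : G) * g) * d⁻¹, hdS _ (mem_zpowers _)⟩ with hi'def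
  have hval : ((i' * i' : ↥(T : Subgroup G)) : G) = (d * g⁻¹) * (c : G) * (d * g⁻¹)⁻¹ := by
    have h2 : (i : G) * i = c := congrArg Subtype.val hi2
    show d * (g⁻¹ * (i : G) * g) * d⁻¹ * (d * (g⁻¹ * (i : G) * g) * d⁻¹) = _
    rw [← h2]; group
  have h4 : (i' * i') * (i' * i') = 1 := Subtype.ext (by
    rw [Subgroup.coe_mul, hval, show d * g⁻¹ * (c : G) * (d * g⁻¹)⁻¹ * (d * g⁻¹ * (c : G) * (d * g⁻¹)⁻¹) =
      d * g⁻¹ * ((c : G) * c) * (d * g⁻¹)⁻¹ by group, hcsq, mul_one, mul_inv_cancel, OneMemClass.coe_one])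
  have hfix := hcentral c (i' * i') hcc (hsq i' h4) hc2 (d * g⁻¹) hval.symm
  have h5 : (d * g⁻¹) * (c : G) * (d * g⁻¹)⁻¹ = c := hval.symm.trans (congrArg Subtype.val hfix.symm)
  refine hne ?_
  calc g * (c : G) * g⁻¹ = g * (d⁻¹ * ((d * g⁻¹) * (c : G) * (d * g⁻¹)⁻¹) * d) * g⁻¹ := by
        rw [h5, mul_assoc d⁻¹, ← hd.eq, inv_mul_cancel_left]
    _ = c := by group

/-- `Split` is impossible. -/
theorem split_false (hna : ¬ IsMulCommutative G) (hW : Nat.card (centralTwo ↥(T : Subgroup G)) = 4)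
    (hS : Split ↥(T : Subgroup G)) : False := by
  classical
  haveI : Fact (Nat.Prime 2) := ⟨Nat.prime_two⟩
  set TT := (T : Subgroup G) with hTT
  obtain ⟨A, hAW, hidx, ⟨t₀, ht₀A, ht₀⟩, hconj⟩ := hS
  let W : Subgroup G := (centralTwo ↥TT).map TT.subtype
  have hWmem : ∀ {x : G}, x ∈ W ↔ ∃ w : ↥TT, w ∈ centralTwo ↥TT ∧ (w : G) = x := fun {x} => mem_map
  have hWT : ∀ {x : G}, x ∈ W → x ∈ TT := fun {x} hx => by
    obtain ⟨w, -, rfl⟩ := hWmem.1 hx; exact w.2
  have hWc : ∀ {x y : G}, x ∈ W → y ∈ TT → Commute y x := fun {x y} hx hy => by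
    obtain ⟨w, hw, rfl⟩ := hWmem.1 hx
    exact congrArg Subtype.val (mem_center_iff.1 hw.1 ⟨y, hy⟩)
  have hWsq : ∀ {x : G}, x ∈ W → x * x = 1 := fun {x} hx => by
    obtain ⟨w, hw, rfl⟩ := hWmem.1 hx
    exact congrArg Subtype.val hw.2
  have hWcard : Nat.card W = 4 := by rw [card_map_of_injective TT.subtype_injective]; exact hW
  -- involutions outside `W` lie outside `A`
  have hout : ∀ {x : G} (hx : x ∈ TT), x * x = 1 → x ∉ W → (⟨x, hx⟩ : ↥TT) ∉ A :=
    fun {x} hx h2 hxW e => hxW (hWmem.2 ⟨⟨x, hx⟩, hAW _ e (Subtype.ext h2), rfl⟩)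
  have hprod : ∀ {x y : G}, x ∈ TT → y ∈ TT → x * x = 1 → y * y = 1 → x ∉ W → y ∉ W → Commute x y →
      x * y ∈ W := fun {x y} hx hy hx2 hy2 hxW hyW hxy =>
    hWmem.2 ⟨⟨x, hx⟩ * ⟨y, hy⟩, hAW _ (hidx _ _ (hout hx hx2 hxW) (hout hy hy2 hyW))
      (Subtype.ext (by show x * y * (x * y) = 1; rw [sq_of_comm hxy, hx2, hy2, one_mul])), rfl⟩
  -- Thompson transfer
  set t : G := (t₀ : G) with htdef
  have ht2 : t * t = 1 := congrArg Subtype.val ht₀
  have ht1 : t ≠ 1 := fun e => ht₀A ((Subtype.ext e : t₀ = 1) ▸ one_mem A)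
  have hto : orderOf t = 2 := Involution.orderOf_of_sq ht2 ht1
  have htW : t ∉ W := fun e => by
    obtain ⟨w, hw, e'⟩ := hWmem.1 e
    have hwt : w = t₀ := Subtype.ext e'
    subst hwt
    obtain ⟨s, hs⟩ : ∃ s, s ∈ centralTwo ↥TT ∧ s ≠ 1 := by
      by_contra hno
      push Not at hno
      rw [(eq_bot_iff_forall _).2 hno, card_bot] at hW
      omega
    obtain ⟨r, hr⟩ := hconj w ht₀A ht₀ s hs.1
    rw [mem_center_iff.1 hw.1 r, mul_inv_cancel_right] at hr
    exact hs.2 (mul_eq_left.1 hr.symm)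
  obtain ⟨g₀, hg₀⟩ := NormEven.exists_index_two_contra hna T (A.map TT.subtype)
    (map_subtype_le A) hto t₀.2
    (fun e => by
      obtain ⟨a, ha, e'⟩ := mem_map.1 e
      exact ht₀A (Subtype.ext e' ▸ ha))
    (fun x hx => by
      by_cases hxA : (⟨x, hx⟩ : ↥TT) ∈ A
      · exact Or.inl ⟨_, hxA, rfl⟩
      · exact Or.inr ⟨_, hidx _ _ hxA ht₀A, rfl⟩)
  set u := g₀ * t * g₀⁻¹ with hu_def
  have huW : u ∈ W := by
    obtain ⟨a, ha, e⟩ := mem_map.1 hg₀
    refine hWmem.2 ⟨a, hAW a ha (Subtype.ext ?_), e⟩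
    show (a : G) * a = 1
    rw [show (a : G) = u from e, hu_def, show g₀ * t * g₀⁻¹ * (g₀ * t * g₀⁻¹) = g₀ * (t * t) * g₀⁻¹ by group,
      ht2, mul_one, mul_inv_cancel]
  -- move `W` along
  let E : Subgroup G := W ⊔ zpowers t
  have hET : E ≤ TT := sup_le (fun x hx => hWT hx) (zpowers_le.2 t₀.2)
  have htE : ∀ x ∈ E, Commute x t := by
    intro x hx
    have hle : E ≤ centralizer ({t} : Set G) := sup_le
      (fun w hw => mem_centralizer_singleton_iff.2 (hWc hw t₀.2).eq.symm)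
      (zpowers_le.2 (mem_centralizer_singleton_iff.2 rfl))
    exact mem_centralizer_singleton_iff.1 (hle hx)
  obtain ⟨d, hd, hdE⟩ := NormEven.exists_conj_cent T (t := u) (fun x hx => hWc huW hx)
    (S := E.map (MulAut.conj g₀).toMonoidHom) ((T.isPGroup'.to_le hET).map _) (by
      rintro _ ⟨x, hx, rfl⟩
      show g₀ * x * g₀⁻¹ * u = u * (g₀ * x * g₀⁻¹)
      rw [hu_def, show g₀ * x * g₀⁻¹ * (g₀ * t * g₀⁻¹) = g₀ * (x * t) * g₀⁻¹ by group, (htE x hx).eq]
      group)
  set g := d * g₀ with hg_def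
  have hgt : g * t * g⁻¹ = u := by
    rw [hg_def, show d * g₀ * t * (d * g₀)⁻¹ = d * u * d⁻¹ by rw [hu_def]; group, hd.eq,
      mul_inv_cancel_right]
  have hgE : ∀ x ∈ E, g * x * g⁻¹ ∈ TT := fun x hx => by
    have := hdE _ (mem_map_of_mem _ hx)
    rw [hg_def, show d * g₀ * x * (d * g₀)⁻¹ = d * (g₀ * x * g₀⁻¹) * d⁻¹ by group]
    exact this
  have hWE : W ≤ E := le_sup_left
  have hgsq : ∀ x : G, x * x = 1 → g * x * g⁻¹ * (g * x * g⁻¹) = 1 := fun x hx => by
    rw [show g * x * g⁻¹ * (g * x * g⁻¹) = g * (x * x) * g⁻¹ by group, hx, mul_one, mul_inv_cancel]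
  -- `w' ∈ W ∩ W^g`, `w ∈ W` outside
  obtain ⟨w', hw', hw'1, hw'g⟩ : ∃ w' ∈ W, w' ≠ 1 ∧ g * w' * g⁻¹ ∈ W := by
    by_contra hno
    push Not at hno
    obtain ⟨a, ha, ha1⟩ : ∃ a ∈ W, a ≠ 1 := by
      by_contra h'
      push Not at h'
      rw [(eq_bot_iff_forall _).2 h', card_bot] at hWcard
      omega
    obtain ⟨b, hb, hb1, hba⟩ : ∃ b ∈ W, b ≠ 1 ∧ b ≠ a := by
      by_contra h'
      push Not at h'
      have hsub : (W : Set G) ⊆ (({1, a} : Finset G) : Set G) := fun x hx => by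
        by_cases hx1 : x = 1
        · simp [hx1]
        · simp [h' x hx hx1]
      have h4 := Set.ncard_le_ncard hsub (Finset.finite_toSet _)
      rw [Set.ncard_coe_finset, Finset.card_pair (Ne.symm ha1), ← Nat.card_coe_set_eq] at h4
      change Nat.card W ≤ 2 at h4
      omega
    refine hno _ (mul_mem ha hb) (fun e => hba ?_) ?_
    · rw [eq_inv_of_mul_eq_one_right e, inv_eq_of_sq (hWsq ha)]
    · rw [show g * (a * b) * g⁻¹ = (g * a * g⁻¹) * (g * b * g⁻¹) by group]
      refine hprod (hgE a (hWE ha)) (hgE b (hWE hb)) (hgsq a (hWsq ha)) (hgsq b (hWsq hb))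
        (hno a ha ha1) (hno b hb hb1) ?_
      show g * a * g⁻¹ * (g * b * g⁻¹) = g * b * g⁻¹ * (g * a * g⁻¹)
      rw [show g * a * g⁻¹ * (g * b * g⁻¹) = g * (a * b) * g⁻¹ by group, (hWc hb (hWT ha)).eq]
      group
  obtain ⟨w, hw, hwg⟩ : ∃ w ∈ W, g * w * g⁻¹ ∉ W := by
    by_contra hno
    push Not at hno
    have heq : W.map (MulAut.conj g).toMonoidHom = W := eq_of_le_of_card_ge
      (by rintro _ ⟨x, hx, rfl⟩; exact hno x hx)
      (card_map_of_injective (MulAut.conj g).injective).ge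
    have : u ∈ W.map (MulAut.conj g).toMonoidHom := heq.symm ▸ huW
    obtain ⟨x, hx, hxe⟩ := this
    refine htW ?_
    have : x = t := (MulAut.conj g).injective (hxe.trans hgt.symm)
    exact this ▸ hx
  set v := g * w * g⁻¹ with hv_def
  have hvT : v ∈ TT := hgE w (hWE hw)
  obtain ⟨s₁, hs₁⟩ : ∃ s : ↥TT, s * t₀ * s⁻¹ = t₀ * ⟨w, hWT hw⟩ := by
    obtain ⟨w₀, hw₀, e⟩ := hWmem.1 hw
    exact hconj t₀ ht₀A ht₀ _ ((Subtype.ext e : w₀ = ⟨w, hWT hw⟩) ▸ hw₀)
  obtain ⟨s₂, hs₂⟩ : ∃ s : ↥TT, s * ⟨v, hvT⟩ * s⁻¹ = ⟨v, hvT⟩ * ⟨_, hWT hw'g⟩ := by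
    obtain ⟨w₀, hw₀, e⟩ := hWmem.1 hw'g
    exact hconj ⟨v, hvT⟩ (hout hvT (hgsq w (hWsq hw)) hwg) (Subtype.ext (hgsq w (hWsq hw))) _
      ((Subtype.ext e : w₀ = ⟨_, hWT hw'g⟩) ▸ hw₀)
  have e1 : (s₁ : G) * t * (s₁ : G)⁻¹ = t * w := congrArg Subtype.val hs₁
  have e2 : (s₂ : G) * v * (s₂ : G)⁻¹ = v * (g * w' * g⁻¹) := congrArg Subtype.val hs₂
  set n := (g⁻¹ * (s₂ : G) * g) * (s₁ : G) with hn_def
  have hfix1 : ∀ {x : G}, x ∈ W → (s₁ : G) * x * (s₁ : G)⁻¹ = x := fun {x} hx => by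
    rw [(hWc hx s₁.2).eq, mul_inv_cancel_right]
  have hfix2 : ∀ {x : G}, g * x * g⁻¹ ∈ W → (g⁻¹ * (s₂ : G) * g) * x * (g⁻¹ * (s₂ : G) * g)⁻¹ = x := by
    intro x hx
    calc (g⁻¹ * (s₂ : G) * g) * x * (g⁻¹ * (s₂ : G) * g)⁻¹ =
        g⁻¹ * ((s₂ : G) * (g * x * g⁻¹) * (s₂ : G)⁻¹) * g := by group
      _ = x := by rw [(hWc hx s₂.2).eq, mul_inv_cancel_right]; group
  have n2w : (g⁻¹ * (s₂ : G) * g) * w * (g⁻¹ * (s₂ : G) * g)⁻¹ = w * w' := by
    calc (g⁻¹ * (s₂ : G) * g) * w * (g⁻¹ * (s₂ : G) * g)⁻¹ =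
        g⁻¹ * ((s₂ : G) * v * (s₂ : G)⁻¹) * g := by rw [hv_def]; group
      _ = w * w' := by rw [e2, hv_def]; group
  have hn : ∀ x : G, n * x * n⁻¹ =
      (g⁻¹ * (s₂ : G) * g) * ((s₁ : G) * x * (s₁ : G)⁻¹) * (g⁻¹ * (s₂ : G) * g)⁻¹ := fun x => by
    rw [hn_def]; group
  have nw' : n * w' * n⁻¹ = w' := by rw [hn, hfix1 hw', hfix2 hw'g]
  have nw : n * w * n⁻¹ = w * w' := by rw [hn, hfix1 hw, n2w]
  have nt : n * t * n⁻¹ = t * (w * w') := by
    rw [hn, e1, show ∀ a b c : G, a * (b * c) * a⁻¹ = (a * b * a⁻¹) * (a * c * a⁻¹) from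
      fun a b c => by group, n2w, hfix2 (by rw [hgt]; exact huW)]
  have hmul : ∀ a b : G, n * (a * b) * n⁻¹ = (n * a * n⁻¹) * (n * b * n⁻¹) := fun a b => by group
  have hww : (w * w') * (w * w') = 1 := hWsq (mul_mem hw hw')
  have n2 : n * (n * t * n⁻¹) * n⁻¹ = t * w' := by
    rw [nt, hmul, hmul, nt, nw, nw', mul_assoc w w' w', hWsq hw', mul_one, mul_assoc, mul_assoc w w',
      (hWc hw (hWT hw')).eq, ← mul_assoc w, hWsq hw, one_mul]
  -- a 2-element with the same square action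
  have hpow : ∀ (a b : ℕ) (x : G), n ^ (a + b) * x * (n ^ (a + b))⁻¹ =
      n ^ a * (n ^ b * x * (n ^ b)⁻¹) * (n ^ a)⁻¹ := fun a b x => by rw [pow_add]; group
  have p2 : n ^ 2 * t * (n ^ 2)⁻¹ = t * w' := by rw [← n2, pow_two]; group
  have p2w : n ^ 2 * w' * (n ^ 2)⁻¹ = w' := by
    rw [show n ^ 2 * w' * (n ^ 2)⁻¹ = n * (n * w' * n⁻¹) * n⁻¹ by rw [pow_two]; group, nw', nw']
  have p4 : ∀ i : ℕ, n ^ (4 * i) * t * (n ^ (4 * i))⁻¹ = t := by
    intro i
    induction i with
    | zero => simp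
    | succ i ih =>
      rw [show 4 * (i + 1) = 4 * i + (2 + 2) by ring, hpow, hpow 2 2, p2,
        show ∀ a b : G, n ^ 2 * (a * b) * (n ^ 2)⁻¹ = (n ^ 2 * a * (n ^ 2)⁻¹) * (n ^ 2 * b * (n ^ 2)⁻¹)
          from fun a b => by group, p2, p2w, mul_assoc t, hWsq hw', mul_one, ih]
  obtain ⟨k, m, hm2, hkm⟩ := Nat.exists_eq_pow_mul_and_not_dvd (orderOf_pos n).ne' 2 (by norm_num)
  obtain ⟨i, hi⟩ : Odd m := Nat.odd_iff.2 (by omega)
  set h := n ^ m with hh_def
  have hh2 : h ^ 2 * t * (h ^ 2)⁻¹ = t * w' := by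
    rw [hh_def, ← pow_mul, show m * 2 = 2 + 4 * i by omega, hpow, p4, p2]
  have hho : h ^ (2 ^ k) = 1 := by
    rw [hh_def, ← pow_mul, mul_comm, ← hkm, pow_orderOf_eq_one]
  have htEmem : t ∈ E := le_sup_right (a := W) (mem_zpowers t)
  have hnE : n ∈ normalizer (E : Set G) := by
    have hgen : E.map (MulAut.conj n).toMonoidHom ≤ E := by
      rw [map_le_iff_le_comap]
      refine sup_le (fun x hx => ?_) (zpowers_le.2 ?_)
      · show n * x * n⁻¹ ∈ E
        rw [hn, hfix1 hx]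
        by_cases hxg : g * x * g⁻¹ ∈ W
        · rw [hfix2 hxg]; exact hWE hx
        · have hxw : g * (x * w) * g⁻¹ ∈ W := by
            rw [show g * (x * w) * g⁻¹ = (g * x * g⁻¹) * (g * w * g⁻¹) by group]
            refine hprod (hgE x (hWE hx)) hvT (hgsq x (hWsq hx)) (hgsq w (hWsq hw)) hxg hwg ?_
            show g * x * g⁻¹ * (g * w * g⁻¹) = g * w * g⁻¹ * (g * x * g⁻¹)
            rw [show g * x * g⁻¹ * (g * w * g⁻¹) = g * (x * w) * g⁻¹ by group, (hWc hw (hWT hx)).eq]
            group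
          rw [show x = (x * w) * w by rw [mul_assoc, hWsq hw, mul_one],
            show ∀ a b c : G, a * (b * c) * a⁻¹ = (a * b * a⁻¹) * (a * c * a⁻¹) from fun a b c => by group,
            hfix2 hxw, n2w]
          exact mul_mem (hWE (mul_mem hx hw)) (hWE (mul_mem hw hw'))
      · show n * t * n⁻¹ ∈ E
        rw [nt]; exact mul_mem htEmem (hWE (mul_mem hw hw'))
    exact Transfer.map_conj_eq_iff_mem_normalizer.1
      (eq_of_le_of_card_ge hgen (card_map_of_injective (MulAut.conj n).injective).ge)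
  have hH2 : IsPGroup 2 (zpowers h) := by
    obtain ⟨l, -, hl⟩ := (Nat.dvd_prime_pow Nat.prime_two).1 (orderOf_dvd_of_pow_eq_one hho)
    exact IsPGroup.of_card (n := l) (by rw [Nat.card_zpowers, hl])
  have hH : IsPGroup 2 ↥(zpowers h ⊔ E) :=
    hH2.to_sup_of_normal_right' (T.isPGroup'.to_le hET) (zpowers_le.2 (pow_mem hnE m))
  obtain ⟨c, hc⟩ := NormEven.exists_conj_mem T hH
  set e' := c * t * c⁻¹ with he'_def
  set h' := c * h * c⁻¹ with hh'_def
  have he'T : e' ∈ TT := hc t (le_sup_right (a := zpowers h) htEmem)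
  have hh'T : h' ∈ TT := hc h (le_sup_left (b := E) (mem_zpowers h))
  have he'2 : e' * e' = 1 := by
    rw [he'_def, show c * t * c⁻¹ * (c * t * c⁻¹) = c * (t * t) * c⁻¹ by group, ht2, mul_one,
      mul_inv_cancel]
  have hne : h' * (h' * e' * h'⁻¹) * h'⁻¹ ≠ e' := by
    rw [hh'_def, he'_def, show c * h * c⁻¹ * (c * h * c⁻¹ * (c * t * c⁻¹) * (c * h * c⁻¹)⁻¹) *
      (c * h * c⁻¹)⁻¹ = c * (h ^ 2 * t * (h ^ 2)⁻¹) * c⁻¹ by rw [pow_two]; group, hh2]
    intro e
    exact hw'1 (mul_eq_left.1 (mul_left_cancel (mul_right_cancel e)))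
  refine hne ?_
  by_cases he'W : e' ∈ W
  · rw [(hWc he'W hh'T).eq, mul_inv_cancel_right, (hWc he'W hh'T).eq, mul_inv_cancel_right]
  set e'' := h' * e' * h'⁻¹ with he''_def
  have he''T : e'' ∈ TT := mul_mem (mul_mem hh'T he'T) (inv_mem hh'T)
  have he''2 : e'' * e'' = 1 := by
    rw [he''_def, show h' * e' * h'⁻¹ * (h' * e' * h'⁻¹) = h' * (e' * e') * h'⁻¹ by group, he'2, mul_one,
      mul_inv_cancel]
  have he''W : e'' ∉ W := fun e => he'W (by
    have h1 : e' = h'⁻¹ * e'' * h' := by rw [he''_def]; group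
    rw [h1, mul_assoc, ← (hWc e hh'T).eq, inv_mul_cancel_left]
    exact e)
  have hcomm : Commute e'' e' := by
    have h1 : h * t * h⁻¹ ∈ E := (mem_normalizer_iff.1 (pow_mem hnE m) t).1 htEmem
    rw [he''_def, hh'_def, he'_def, show c * h * c⁻¹ * (c * t * c⁻¹) * (c * h * c⁻¹)⁻¹ =
      c * (h * t * h⁻¹) * c⁻¹ by group]
    show c * (h * t * h⁻¹) * c⁻¹ * (c * t * c⁻¹) = c * t * c⁻¹ * (c * (h * t * h⁻¹) * c⁻¹)
    rw [show c * (h * t * h⁻¹) * c⁻¹ * (c * t * c⁻¹) = c * ((h * t * h⁻¹) * t) * c⁻¹ by group,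
      (htE _ h1).eq]
    group
  have hq := hprod he''T he'T he''2 he'2 he''W he'W hcomm
  calc h' * e'' * h'⁻¹ = h' * ((e'' * e') * e') * h'⁻¹ := by rw [mul_assoc e'' e', he'2, mul_one]
    _ = (h' * (e'' * e') * h'⁻¹) * (h' * e' * h'⁻¹) := by group
    _ = (e'' * e') * e'' := by rw [(hWc hq hh'T).eq, mul_inv_cancel_right]
    _ = e' := by rw [mul_assoc, ← hcomm.eq, ← mul_assoc, he''2, one_mul]

/-- Elementary abelian normal subgroups have order at most four. -/
theorem hyp_of_two_generated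
    (hd2 : ∀ A : Subgroup ↥(T : Subgroup G), A.Normal → IsMulCommutative ↥A →
      ∃ a b : ↥(T : Subgroup G), Subgroup.closure {a, b} = A) : Hyp ↥(T : Subgroup G) where
  two := T.isPGroup'
  small := fun A hA hc hsq => by
    classical
    obtain ⟨a, b, hab⟩ := hd2 A hA ⟨⟨fun x y => Subtype.ext (hc x x.2 y y.2)⟩⟩
    have ha : a ∈ A := hab ▸ subset_closure (by simp)
    have hb : b ∈ A := hab ▸ subset_closure (by simp)
    have hsub : (A : Set ↥(T : Subgroup G)) ⊆
        (({1, a, b, a * b} : Finset ↥(T : Subgroup G)) : Set ↥(T : Subgroup G)) := by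
      intro x hx
      rw [← hab] at hx
      have hx' : x ∈ closure ({a, b} : Set ↥(T : Subgroup G)) := hx
      clear hx
      have key : x = 1 ∨ x = a ∨ x = b ∨ x = a * b := by
        have hcab : a * b = b * a := hc a ha b hb
        induction hx' using closure_induction with
        | mem y hy =>
          rcases hy with rfl | rfl
          · exact Or.inr (Or.inl rfl)
          · exact Or.inr (Or.inr (Or.inl rfl))
        | one => exact Or.inl rfl
        | mul p q _ _ hp hq =>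
          have ha2 : a * a = 1 := hsq a ha
          have hb2 : b * b = 1 := hsq b hb
          have hba2 : b * (a * b) = a := by rw [← mul_assoc, ← hcab, mul_assoc, hb2, mul_one]
          have haab : a * (a * b) = b := by rw [← mul_assoc, ha2, one_mul]
          have haba : a * b * a = b := by rw [hcab, mul_assoc, ha2, mul_one]
          have habb : a * b * b = a := by rw [mul_assoc, hb2, mul_one]
          have habab : a * b * (a * b) = 1 := hsq _ (mul_mem ha hb)
          rcases hp with rfl | rfl | rfl | rfl <;>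
            rcases hq with rfl | rfl | rfl | rfl <;>
            simp [ha2, hb2, hba2, haab, haba, habb, habab, ← hcab]
        | inv p hp' hp =>
          have hp2 : p * p = 1 := hsq p (hab ▸ hp')
          rw [inv_eq_of_sq hp2]
          exact hp
      rcases key with rfl | rfl | rfl | rfl <;> simp
    calc Nat.card A = (A : Set ↥(T : Subgroup G)).ncard := Nat.card_coe_set_eq _
      _ ≤ ({1, a, b, a * b} : Finset ↥(T : Subgroup G)).card := by
          rw [← Set.ncard_coe_finset]; exact Set.ncard_le_ncard hsub (Finset.finite_toSet _)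
      _ ≤ 4 := Finset.card_le_four

/-- An abelian Sylow 2-subgroup of rank two in a simple group has order four. -/
theorem abelian_card (hna : ¬ IsMulCommutative G) (hP : Hyp ↥(T : Subgroup G))
    (hc : IsMulCommutative ↥(T : Subgroup G)) (hne : Nat.card ↥(T : Subgroup G) ≠ 1) :
    Nat.card ↥(T : Subgroup G) = 4 := by
  haveI : Fact (Nat.Prime 2) := ⟨Nat.prime_two⟩
  have hev : 2 ∣ Nat.card G := by
    obtain ⟨k, hk⟩ := IsPGroup.iff_card.1 T.isPGroup'
    refine dvd_trans ?_ (card_subgroup_dvd_card (T : Subgroup G))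
    rw [hk] at hne ⊢
    exact dvd_pow_self 2 fun e => hne (by rw [e, pow_zero])
  have hO : Cfsg.oddCore G = ⊥ := by
    refine (Cores.pPrimeCore_normal 2 G).eq_bot_or_eq_top.resolve_right fun h => ?_
    have h1 : ¬ 2 ∣ Nat.card (Cfsg.pPrimeCore 2 G) := Cores.not_dvd_card_pPrimeCore
    change Cfsg.pPrimeCore 2 G = ⊤ at h
    rw [h, Subgroup.card_top] at h1
    exact h1 hev
  have hr : Cfsg.PRankLE 2 2 ↥(T : Subgroup G) := fun A hA h2 =>
    hP.small A ⟨fun x hx g => by rw [hc.is_comm.comm g x, mul_inv_cancel_right]; exact hx⟩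
      (fun a _ b _ => hc.is_comm.comm a b) (fun a ha => by rw [← pow_two]; exact h2 a ha)
  rcases AbelianSylowTwo.rankLE_two_cases hO T hc hr with h | h | ⟨m, hm, ⟨e⟩⟩
  · refine absurd ⟨⟨fun a b => ?_⟩⟩ hna
    exact congrArg Subtype.val (hc.is_comm.comm ⟨a, h ▸ mem_top a⟩ ⟨b, h ▸ mem_top b⟩)
  · exact h.card_four
  · exfalso
    obtain ⟨hn, -, -⟩ := S0949.result T m hm e fun N hN hodd =>
      hN.eq_bot_or_eq_top.resolve_right fun htop => by
        rw [htop, card_top] at hodd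
        exact Nat.not_even_iff_odd.2 hodd (even_iff_two_dvd.2 hev)
    rcases hn.eq_bot_or_eq_top with h | h
    · exact hne (by rw [h, card_bot])
    · exact hna ⟨⟨fun a b => congrArg Subtype.val (hc.is_comm.comm ⟨a, h ▸ mem_top a⟩ ⟨b, h ▸ mem_top b⟩)⟩⟩

theorem autom_apply (n : normalizer ((T : Subgroup G) : Set G)) (x : ↥(T : Subgroup G)) :
    ((((T : Subgroup G).normalizerMonoidHom n) x : ↥(T : Subgroup G)) : G) = (n : G) * (x : G) * (n : G)⁻¹ :=
  rfl

theorem odd_index_normalizer :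
    Odd ((T : Subgroup G).subgroupOf (normalizer ((T : Subgroup G) : Set G))).index := by
  haveI : Fact (Nat.Prime 2) := ⟨Nat.prime_two⟩
  have h := relIndex_dvd_index_of_le (Subgroup.le_normalizer (H := (T : Subgroup G)))
  refine Nat.odd_iff.2 ?_
  have h2 : ¬ 2 ∣ ((T : Subgroup G).subgroupOf (normalizer ((T : Subgroup G) : Set G))).index :=
    fun e => T.not_dvd_index (dvd_trans e h)
  omega

/-- The order of `T`. -/
theorem order_eq (hna : ¬ IsMulCommutative G) (hP : Hyp ↥(T : Subgroup G))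
    (hne : Nat.card ↥(T : Subgroup G) ≠ 1)
    (hN : ¬ normalizer ((T : Subgroup G) : Set G) ≤
      (T : Subgroup G) ⊔ centralizer ((T : Subgroup G) : Set G)) :
    Nat.card ↥(T : Subgroup G) = 4 ∨ Nat.card ↥(T : Subgroup G) = 64 ∨
      Nat.card ↥(T : Subgroup G) = 128 := by
  classical
  haveI : Fact (Nat.Prime 2) := ⟨Nat.prime_two⟩
  by_cases hc : IsMulCommutative ↥(T : Subgroup G)
  · exact Or.inl (abelian_card hna hP hc hne)
  have hab : ∃ a b : ↥(T : Subgroup G), a * b ≠ b * a := by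
    by_contra h
    push Not at h
    exact hc ⟨⟨h⟩⟩
  set P := ↥(T : Subgroup G)
  set NN := normalizer ((T : Subgroup G) : Set G)
  set f := (T : Subgroup G).normalizerMonoidHom
  by_cases hfix : ∀ n : NN, ∀ u ∈ centralTwo P, f n u = u
  · -- central involutions are pairwise nonconjugate
    have hcentral : ∀ x y : P, x ∈ center _ → y ∈ center _ → x * x = 1 →
        ∀ g : G, g * (x : G) * g⁻¹ = y → x = y := by
      intro x y hx hy hx2 g hg
      obtain ⟨n, hn, he⟩ := NormEven.central_fusion T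
        (fun z hz => congrArg Subtype.val (mem_center_iff.1 hx ⟨z, hz⟩))
        (fun z hz => congrArg Subtype.val (mem_center_iff.1 hy ⟨z, hz⟩)) hg
      rw [← hfix ⟨n, hn⟩ x ⟨hx, hx2⟩]
      exact Subtype.ext he
    -- an automorphism of odd prime order
    obtain ⟨p, hp, hp2, hpd⟩ : ∃ p : ℕ, p.Prime ∧ p ≠ 2 ∧ p ∣ Nat.card f.range := by
      by_contra hno
      push Not at hno
      obtain ⟨k, hk⟩ : ∃ k, Nat.card f.range = 2 ^ k := ⟨_, Nat.eq_prime_pow_of_unique_prime_dvd
        Nat.card_pos.ne' fun {d} hd hdd => by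
          by_contra hd2
          exact hno d hd hd2 hdd⟩
      refine hN fun g hg => ?_
      set T' := (T : Subgroup G).subgroupOf NN
      have hidx : (T'.map f.rangeRestrict).index = 1 := by
        refine Nat.eq_one_of_dvd_coprimes (Nat.Coprime.pow_left k
          ((Nat.coprime_two_left).2 (odd_index_normalizer (T := T)))) ?_
          (index_map_dvd T' (MonoidHom.rangeRestrict_surjective f))
        rw [← hk]; exact index_dvd_card _
      have hmem : f.rangeRestrict ⟨g, hg⟩ ∈ T'.map f.rangeRestrict := (index_eq_one.1 hidx) ▸ mem_top _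
      obtain ⟨t, ht, e⟩ := hmem
      have h1 : t⁻¹ * ⟨g, hg⟩ ∈ f.ker := by
        have e' : f t = f ⟨g, hg⟩ := congrArg Subtype.val e
        rw [MonoidHom.mem_ker, map_mul, map_inv, e', inv_mul_cancel]
      rw [Subgroup.normalizerMonoidHom_ker, mem_subgroupOf] at h1
      have e2 : g = (t : G) * ((t : G)⁻¹ * g) := (mul_inv_cancel_left _ _).symm
      rw [e2]
      exact mul_mem (mem_sup_left ht) (mem_sup_right (by simpa using h1))
    haveI := Fact.mk hp
    obtain ⟨⟨θ, n, hnθ⟩, hθo⟩ := exists_prime_orderOf_dvd_card' p hpd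
    rw [← Subgroup.orderOf_coe] at hθo
    change orderOf θ = p at hθo
    have hθ : OddAct θ p := ⟨hp, hp2, 1, by rw [pow_one, ← hθo, pow_orderOf_eq_one]⟩
    have hθ1 : θ ≠ 1 := fun e => by rw [e, orderOf_one] at hθo; exact hp.one_lt.ne hθo
    obtain ⟨Z, -, h⟩ := exists_tower θ (⊥ : Subgroup P) inferInstance
      (fun a ha b _ => by rw [mem_bot] at ha; simp [ha]) (fun a ha => by rw [mem_bot] at ha ⊢; simp [ha])
    have hOmfix : ∀ w ∈ h.Om, θ w = w := by
      intro w hw
      by_cases hwc : w ∈ center P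
      · rw [← hnθ]; exact hfix n w ⟨hwc, hw.2⟩
      haveI := h.Om_normal
      have hne' : h.Om ≠ ⊥ := fun e => hwc (by rw [e, mem_bot] at hw; rw [hw]; exact one_mem _)
      obtain ⟨c, hcO, hcc, hco⟩ := PGroup.exists_central_order_p hP.two hne'
      have hθc : θ c = c := by rw [← hnθ]; exact hfix n c ⟨hcc, hcO.2⟩
      have hc1 : c ≠ 1 := fun e => by rw [e, orderOf_one] at hco; omega
      have hw1 : w ≠ 1 := fun e => hwc (e ▸ one_mem _)
      have hwc' : w ≠ c := fun e => hwc (e ▸ hcc)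
      have hwc1 : w * c ≠ 1 := fun e => hwc' (by rw [eq_inv_of_mul_eq_one_left e, inv_eq_of_sq hcO.2])
      by_contra hmov
      have hwc2 : θ w ≠ w * c := fun e => hmov (hθ.fixed_of_twist hP.two e hθc)
      have hsub : (({1, c, w, w * c, θ w} : Finset P) : Set P) ⊆ h.Om := by
        intro x hx
        simp only [Finset.coe_insert, Finset.coe_singleton, Set.mem_insert_iff, Set.mem_singleton_iff] at hx
        rcases hx with rfl | rfl | rfl | rfl | rfl
        exacts [one_mem _, hcO, hw, mul_mem hw hcO, h.Om_inv hw]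
      have h5 := Nat.card_mono (Set.toFinite (h.Om : Set P)) hsub
      rw [Nat.card_coe_set_eq, Set.ncard_coe_finset,
        Finset.card_insert_of_notMem (by
          simp only [Finset.mem_insert, Finset.mem_singleton, not_or]
          exact ⟨hc1.symm, hw1.symm, hwc1.symm, fun e => hw1 (θ.injective (e.symm.trans (map_one θ).symm))⟩),
        Finset.card_insert_of_notMem (by
          simp only [Finset.mem_insert, Finset.mem_singleton, not_or]
          exact ⟨hwc'.symm, fun e => hw1 (mul_eq_right.1 e.symm),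
            fun e => hwc' (θ.injective (e.symm.trans hθc.symm))⟩),
        Finset.card_insert_of_notMem (by
          simp only [Finset.mem_insert, Finset.mem_singleton, not_or]
          exact ⟨fun e => hc1 (mul_eq_left.1 e.symm), fun e => hmov e.symm⟩),
        Finset.card_pair hwc2.symm] at h5
      change 2 + 1 + 1 + 1 ≤ Nat.card h.Om at h5
      have := h.card_Om_le hP
      omega
    have hZfix : ∀ z ∈ Z, θ z = z := by
      intro z hz
      obtain ⟨j, hj⟩ := hP.two z
      induction j generalizing z with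
      | zero => rw [pow_zero, pow_one] at hj; rw [hj, map_one]
      | succ j ih =>
        have h2 : θ (z * z) = z * z := ih (z * z) (mul_mem hz hz)
          (by rw [← pow_two, ← pow_mul, ← pow_succ']; exact hj)
        have he : z⁻¹ * θ z ∈ h.Om := by
          refine ⟨mul_mem (inv_mem hz) (h.inv z hz), ?_⟩
          rw [sq_of_comm (h.comm _ (inv_mem hz) _ (h.inv z hz)), ← map_mul, h2, ← mul_inv_rev,
            inv_mul_cancel]
        exact hθ.fixed_of_twist hP.two (mul_inv_cancel_left _ _).symm (hOmfix _ he)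
    rcases h.fixed_case hP hθ hθ1 hZfix with hR | h128
    · exact (rigid_false hna hR hcentral).elim
    · exact Or.inr (Or.inr h128)
  · push Not at hfix
    obtain ⟨n, u, hu, hmov⟩ := hfix
    let ρ : MulAut P →* Equiv.Perm ↥(centralTwo P) :=
      MonoidHom.mk' (fun a =>
        { toFun := fun w => ⟨a w, centralTwo_inv a w.2⟩
          invFun := fun w => ⟨a⁻¹ w, centralTwo_inv a⁻¹ w.2⟩
          left_inv := fun w => Subtype.ext (MulEquiv.symm_apply_apply a (w : P))
          right_inv := fun w => Subtype.ext (MulEquiv.apply_symm_apply a (w : P)) })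
        fun a b => Equiv.ext fun w => Subtype.ext rfl
    set σ := ρ (f n)
    have hσ1 : σ ≠ 1 := fun e => hmov (congrArg Subtype.val (Equiv.congr_fun e ⟨u, hu⟩))
    have hW4 : Nat.card (centralTwo P) ≤ 4 :=
      hP.small _ ⟨fun x hx g => by rw [mem_center_iff.1 hx.1 g, mul_inv_cancel_right]; exact hx⟩
        (fun a _ b hb => mem_center_iff.1 hb.1 a) (fun a ha => ha.2)
    -- the order of `σ` is odd and divides 24
    have hd1 : orderOf σ ∣ 24 := by
      refine dvd_trans (orderOf_dvd_natCard σ) ?_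
      rw [Nat.card_perm]
      exact Nat.factorial_dvd_factorial hW4
    have hodd : Odd (orderOf σ) := by
      have hle : (T : Subgroup G).subgroupOf NN ≤ (ρ.comp f).ker := fun t ht => Equiv.ext fun w =>
        Subtype.ext (Subtype.ext (by
          show (t : G) * ((w : P) : G) * (t : G)⁻¹ = ((w : P) : G)
          have e : (t : G) * ((w : P) : G) = ((w : P) : G) * (t : G) :=
            congrArg Subtype.val (mem_center_iff.1 w.2.1 ⟨(t : G), ht⟩)
          rw [e]
          exact mul_inv_cancel_right _ _))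
      have h1 : orderOf σ ∣ Nat.card (ρ.comp f).range :=
        (Subgroup.orderOf_dvd_natCard _ ⟨n, rfl⟩)
      rw [← index_ker] at h1
      exact Odd.of_dvd_nat (odd_index_normalizer (T := T)) (h1.trans (index_dvd_of_le hle))
    have hσ3 : orderOf σ = 3 := by
      have hle := Nat.le_of_dvd (by norm_num) hd1
      have hne1 : orderOf σ ≠ 1 := fun e => hσ1 (orderOf_eq_one_iff.1 e)
      have := orderOf_pos σ
      rw [Nat.odd_iff] at hodd
      interval_cases (orderOf σ) <;> omega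
    obtain ⟨j, m, hm3, hjm⟩ :=
      Nat.exists_eq_pow_mul_and_not_dvd (orderOf_pos (f n)).ne' 3 (by norm_num)
    set θ := f n ^ m with hθ_def
    have hθ : OddAct θ 3 := ⟨Nat.prime_three, by norm_num, j, by
      rw [hθ_def, ← pow_mul, mul_comm, ← hjm, pow_orderOf_eq_one]⟩
    have hmove : ∃ w ∈ centralTwo P, θ w ≠ w := by
      by_contra hall
      push Not at hall
      have h1 : σ ^ m = 1 := by
        rw [← map_pow]
        exact Equiv.ext fun w => Subtype.ext (hall w w.2)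
      have h2 := orderOf_dvd_of_pow_eq_one h1
      rw [hσ3] at h2
      exact hm3 h2
    rcases moved_case hP hθ hmove hab with h | h | hS
    · exact Or.inr (Or.inl h)
    · exact Or.inr (Or.inr h)
    · refine (split_false hna ?_ hS).elim
      have h3 : 3 ≤ Nat.card (centralTwo P) := by
        by_contra hlt
        have hd : orderOf σ ∣ (Nat.card (centralTwo P)).factorial := by
          rw [← Nat.card_perm]; exact orderOf_dvd_natCard σ
        rw [hσ3] at hd
        exact absurd ((Nat.Prime.dvd_factorial Nat.prime_three).1 hd) hlt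
      obtain ⟨i, hi⟩ := IsPGroup.iff_card.1 (hP.two.to_subgroup (centralTwo P))
      rw [hi] at h3 hW4 ⊢
      have hi2 : i ≤ 2 := by
        by_contra hlt
        have : 2 ^ 3 ≤ 2 ^ i := Nat.pow_le_pow_right (by norm_num) (by omega)
        omega
      interval_cases i <;> simp_all

end Cfsg.Agent.NormalRankTwoOdd
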