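import Cfsg.Agent.Lib.NormalRankTwoOdd.FixedCases

/-!
# The automorphism moves a central involution (helper73)

`W` is the four group of central elements of order at most two, `θ` a 3-element moving one of them.

* `centralTwo`: `W`
* `FourSec`: an invariant section of order four on which `θ` is fixed point free
* `FourSec.orbit_prod`: the product of the conjugates of a singular `t` acts without kernel
* `Split`: an abelian subgroup of index two, inverted modulo small error by an involution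
* `moved_case`: `|P| ∈ {64, 128}` or `Split P`
-/

set_option autoImplicit false
set_option linter.style.haveILetI false
set_option linter.unusedSectionVars false

open Subgroup
open scoped commutatorElement

namespace Cfsg.Agent.NormalRankTwoOdd

variable {P : Type*} [Group P]

/-- The central elements of order at most two. -/
def centralTwo (P : Type*) [Group P] : Subgroup P where
  carrier := {x | x ∈ center P ∧ x * x = 1}
  one_mem' := ⟨one_mem _, one_mul 1⟩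
  mul_mem' := fun {a b} ha hb => ⟨mul_mem ha.1 hb.1, by
    rw [sq_of_comm (mem_center_iff.1 ha.1 b).symm, ha.2, hb.2, mul_one]⟩
  inv_mem' := fun {a} ha => ⟨inv_mem ha.1, by rw [inv_eq_of_sq ha.2]; exact ha.2⟩

theorem mem_centralTwo {x : P} : x ∈ centralTwo P ↔ x ∈ center P ∧ x * x = 1 := Iff.rfl

theorem centralTwo_inv (θ : MulAut P) {x : P} (hx : x ∈ centralTwo P) : θ x ∈ centralTwo P :=
  ⟨mem_center_iff.2 fun g => by
    obtain ⟨s, rfl⟩ := θ.surjective g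
    rw [← map_mul, ← map_mul, mem_center_iff.1 hx.1 s], by rw [← map_mul, hx.2, map_one]⟩

/-- An abelian subgroup `A` of index two whose involutions are central, an involution outside, and
every such involution is conjugate to each of its products with `W`. -/
def Split (P : Type*) [Group P] : Prop :=
  ∃ A : Subgroup P, (∀ x ∈ A, x * x = 1 → x ∈ centralTwo P) ∧
    (∀ a b : P, a ∉ A → b ∉ A → a * b ∈ A) ∧ (∃ t : P, t ∉ A ∧ t * t = 1) ∧
    ∀ y : P, y ∉ A → y * y = 1 → ∀ w ∈ centralTwo P, ∃ s : P, s * y * s⁻¹ = y * w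

variable [Finite P] {θ : MulAut P} {Z : Subgroup P}

/-- Cosets of a subgroup of index four. -/
theorem mem_of_four {M N : Subgroup P} (hNM : N ≤ M) (hcard : Nat.card M = 4 * Nat.card N) {a b c x : P}
    (ha : a ∈ M) (hb : b ∈ M) (hc : c ∈ M) (hx : x ∈ M) (ha' : a ∉ N) (hb' : b ∉ N) (hc' : c ∉ N)
    (hab : a⁻¹ * b ∉ N) (hac : a⁻¹ * c ∉ N) (hbc : b⁻¹ * c ∉ N) :
    x ∈ N ∨ a⁻¹ * x ∈ N ∨ b⁻¹ * x ∈ N ∨ c⁻¹ * x ∈ N := by
  classical
  by_contra hno
  push Not at hno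
  obtain ⟨h0, h1, h2, h3⟩ := hno
  have hq : Nat.card (↥M ⧸ N.subgroupOf M) = 4 := by
    have h4 := card_mul_index (N.subgroupOf M)
    rw [Nat.card_congr (subgroupOfEquivOfLe hNM).toEquiv, hcard, mul_comm 4] at h4
    rw [← index_eq_card]
    exact Nat.eq_of_mul_eq_mul_left Nat.card_pos h4
  have key : ∀ {u v : M}, (u : P)⁻¹ * v ∉ N →
      (QuotientGroup.mk u : ↥M ⧸ N.subgroupOf M) ≠ QuotientGroup.mk v :=
    fun {u v} h e => h (mem_subgroupOf.1 (QuotientGroup.eq.1 e))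
  let f : Fin 5 → ↥M ⧸ N.subgroupOf M :=
    ![QuotientGroup.mk 1, QuotientGroup.mk ⟨a, ha⟩, QuotientGroup.mk ⟨b, hb⟩, QuotientGroup.mk ⟨c, hc⟩,
      QuotientGroup.mk ⟨x, hx⟩]
  have h01 := key (u := 1) (v := ⟨a, ha⟩) (by simpa using ha')
  have h02 := key (u := 1) (v := ⟨b, hb⟩) (by simpa using hb')
  have h03 := key (u := 1) (v := ⟨c, hc⟩) (by simpa using hc')
  have h04 := key (u := 1) (v := ⟨x, hx⟩) (by simpa using h0)
  have h12 := key (u := ⟨a, ha⟩) (v := ⟨b, hb⟩) hab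
  have h13 := key (u := ⟨a, ha⟩) (v := ⟨c, hc⟩) hac
  have h14 := key (u := ⟨a, ha⟩) (v := ⟨x, hx⟩) h1
  have h23 := key (u := ⟨b, hb⟩) (v := ⟨c, hc⟩) hbc
  have h24 := key (u := ⟨b, hb⟩) (v := ⟨x, hx⟩) h2
  have h34 := key (u := ⟨c, hc⟩) (v := ⟨x, hx⟩) h3
  have hf : Function.Injective f := by
    intro i j hij
    fin_cases i <;> fin_cases j <;> first
      | rfl
      | (exfalso; simp only [f] at hij; first
          | exact h01 hij | exact h02 hij | exact h03 hij | exact h04 hij | exact h12 hij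
          | exact h13 hij | exact h14 hij | exact h23 hij | exact h24 hij | exact h34 hij
          | exact h01 hij.symm | exact h02 hij.symm | exact h03 hij.symm | exact h04 hij.symm
          | exact h12 hij.symm | exact h13 hij.symm | exact h14 hij.symm | exact h23 hij.symm
          | exact h24 hij.symm | exact h34 hij.symm)
  have := Nat.card_le_card_of_injective f hf
  rw [hq, Nat.card_fin] at this
  omega

/-- The standing hypotheses: `W = Ω₁(Z)` of order four, `θ` fixed point free on it. -/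
structure Moved (θ : MulAut P) (Z : Subgroup P) : Prop where
  hyp : Hyp P
  act : OddAct θ 3
  tower : Tower θ Z
  om_eq : tower.Om = centralTwo P
  card_om : Nat.card tower.Om = 4
  free : ∀ w ∈ tower.Om, θ w = w → w = 1

/-- An invariant section of order four without fixed points. -/
structure FourSec (θ : MulAut P) (Z M N : Subgroup P) : Prop where
  le : N ≤ M
  leZ : M ≤ Z
  invM : ∀ a ∈ M, θ a ∈ M
  invN : ∀ a ∈ N, θ a ∈ N
  card : Nat.card M = 4 * Nat.card N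
  free : ∀ a ∈ M, a⁻¹ * θ a ∈ N → a ∈ N
  free2 : ∀ a ∈ M, a⁻¹ * θ (θ a) ∈ N → a ∈ N
  sq : ∀ a ∈ M, a * a ∈ N

namespace FourSec

variable {M N : Subgroup P}

theorem not_mem_map (F : FourSec θ Z M N) {y : P} (hy : y ∉ N) : θ y ∉ N :=
  fun e => hy (mem_of_map_mem F.invN e)

/-- The three nontrivial classes are `y`, `θ y`, `θ² y`. -/
theorem classes (F : FourSec θ Z M N) {y x : P} (hy : y ∈ M) (hy' : y ∉ N) (hx : x ∈ M) :
    x ∈ N ∨ y⁻¹ * x ∈ N ∨ (θ y)⁻¹ * x ∈ N ∨ (θ (θ y))⁻¹ * x ∈ N :=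
  mem_of_four F.le F.card hy (F.invM y hy) (F.invM _ (F.invM y hy)) hx hy' (F.not_mem_map hy')
    (F.not_mem_map (F.not_mem_map hy')) (fun e => hy' (F.free y hy e)) (fun e => hy' (F.free2 y hy e))
    (fun e => F.not_mem_map hy' (F.free _ (F.invM y hy) e))

theorem third_sq (F : FourSec θ Z M N) (h : Tower θ Z) {y : P} (hy : y ∈ M) (hy' : y ∉ N) :
    (θ (θ y))⁻¹ * (y * θ y) ∈ N ∧ y⁻¹ * θ (θ (θ y)) ∈ N := by
  have hθy := F.invM y hy
  have hθθy := F.invM _ hθy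
  have hc : y * θ y = θ y * y := h.comm _ (F.leZ hy) _ (F.leZ hθy)
  constructor
  · rcases F.classes hy hy' (mul_mem hy hθy) with e | e | e | e
    · exact absurd (F.free y hy (by
        rw [show y⁻¹ * θ y = (y * y)⁻¹ * (y * θ y) by group]
        exact mul_mem (inv_mem (F.sq y hy)) e)) hy'
    · rw [inv_mul_cancel_left] at e; exact absurd e (F.not_mem_map hy')
    · rw [hc, inv_mul_cancel_left] at e; exact absurd e hy'
    · exact e
  · have hmap := F.invM _ hθθy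
    rcases F.classes hy hy' hmap with e | e | e | e
    · exact absurd e (F.not_mem_map (F.not_mem_map (F.not_mem_map hy')))
    · exact e
    · exact absurd (F.free2 _ hθy e) (F.not_mem_map hy')
    · exact absurd (F.free _ hθθy e) (F.not_mem_map (F.not_mem_map hy'))

end FourSec

namespace Moved

variable (hM : Moved θ Z)

include hM

theorem om_central {w : P} (hw : w ∈ hM.tower.Om) (s : P) : s * w = w * s := by
  rw [hM.om_eq] at hw; exact mem_center_iff.1 hw.1 s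

theorem cent_le_K : centralizer (Z : Set P) ≤ hM.tower.K :=
  hM.tower.cent_le_K hM.hyp fun _ hw s => hM.om_central hw s

theorem freeZ {z : P} (hz : z ∈ Z) (hzf : θ z = z) : z = 1 := by
  obtain ⟨j, hj⟩ := hM.hyp.two z
  induction j generalizing z with
  | zero => rwa [pow_zero, pow_one] at hj
  | succ j ih =>
    have h2 : z * z = 1 := ih (mul_mem hz hz) (by rw [map_mul, hzf])
      (by rw [← pow_two, ← pow_mul, ← pow_succ']; exact hj)
    exact hM.free z ⟨hz, h2⟩ hzf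

theorem freeK {k : P} (hk : k ∈ hM.tower.K) (hkf : θ k = k) : k = 1 := by
  have h2 : k * k = 1 := hM.freeZ hk.2.1 (by rw [map_mul, hkf])
  by_cases hkZ : k ∈ Z
  · exact hM.freeZ hkZ hkf
  · exact absurd (by rw [mul_one]; exact h2)
      (hM.tower.sq_mul_ne hM.hyp hM.card_om.ge hk hkZ (one_mem Z))

theorem card_mod (N : Subgroup P) (hN : ∀ a ∈ N, θ a ∈ N) (hf : ∀ a ∈ N, θ a = a → a = 1) :
    Nat.card N % 3 = 1 := by
  have h := hM.act.card_modEq_fixed (N : Set P) hN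
  have h1 : Nat.card {x : (N : Set P) // θ x = x} = 1 :=
    Nat.card_eq_one_iff_unique.2 ⟨⟨fun a b => Subtype.ext (Subtype.ext
      ((hf a.1 a.1.2 a.2).trans (hf b.1 b.1.2 b.2).symm))⟩, ⟨⟨⟨1, one_mem N⟩, map_one θ⟩⟩⟩
  rw [h1] at h
  exact h

/-- The orbit of an involution of `W`. -/
theorem orbit_eq {u : P} (hu : u ∈ hM.tower.Om) (hu1 : u ≠ 1) :
    u * θ u * θ (θ u) = 1 ∧ ∀ w ∈ hM.tower.Om, w = 1 ∨ w = u ∨ w = θ u ∨ w = θ (θ u) := by
  have h := hM.tower
  have F : FourSec θ Z hM.tower.Om ⊥ :=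
    { le := bot_le
      leZ := hM.tower.Om_le
      invM := fun a ha => hM.tower.Om_inv ha
      invN := fun a ha => by rw [mem_bot] at ha ⊢; rw [ha, map_one]
      card := by rw [hM.card_om, card_bot]
      free := fun a ha e => mem_bot.2 (hM.free a ha (inv_mul_eq_one.1 (mem_bot.1 e)).symm)
      free2 := fun a ha e => by
        refine mem_bot.2 (hM.free a ha ?_)
        exact (inv_mul_eq_one.1 (mem_bot.1 (hM.act.mod_fixed ⊥ (fun x hx => by
          rw [mem_bot] at hx ⊢; rw [hx, map_one]) e))).symm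
      sq := fun a ha => mem_bot.2 ha.2 }
  have hu' : u ∉ (⊥ : Subgroup P) := fun e => hu1 (mem_bot.1 e)
  constructor
  · have h3 := inv_mul_eq_one.1 (mem_bot.1 (F.third_sq h hu hu').1)
    rw [← h3]; exact (hM.tower.Om_inv (hM.tower.Om_inv hu)).2
  · intro w hw
    rcases F.classes hu hu' hw with e | e | e | e <;> rw [mem_bot] at e
    · exact Or.inl e
    · exact Or.inr (Or.inl (inv_mul_eq_one.1 e).symm)
    · exact Or.inr (Or.inr (Or.inl (inv_mul_eq_one.1 e).symm))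
    · exact Or.inr (Or.inr (Or.inr (inv_mul_eq_one.1 e).symm))

theorem le_of_invariant (N : Subgroup P) (hN : ∀ a ∈ N, θ a ∈ N) {u : P} (hu : u ∈ hM.tower.Om)
    (hu1 : u ≠ 1) (huN : u ∈ N) : hM.tower.Om ≤ N := by
  intro w hw
  rcases (hM.orbit_eq hu hu1).2 w hw with rfl | rfl | rfl | rfl
  exacts [one_mem N, huN, hN _ huN, hN _ (hN _ huN)]

theorem card_K_ne : Nat.card hM.tower.K ≠ 4 * Nat.card Z := by
  intro hc
  haveI := hM.tower.normal
  have h := hM.tower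
  obtain ⟨a, ha, haZ⟩ : ∃ a ∈ hM.tower.K, a ∉ Z := by
    refine SetLike.not_le_iff_exists.1 fun hle => ?_
    have h1 := card_le_of_le hle
    have h2 := Nat.card_pos (α := Z)
    omega
  have hθa := hM.tower.K_inv ha
  have hθθa := hM.tower.K_inv hθa
  have hZmap : ∀ {x : P}, x ∉ Z → θ x ∉ Z := fun hx e => hx (mem_of_map_mem hM.tower.inv e)
  have hfree : ∀ x ∈ hM.tower.K, x ∉ Z → x⁻¹ * θ x ∉ Z := fun x hx hxZ e => by
    obtain ⟨n, hn, hf⟩ := hM.act.exists_fixed_coset hM.hyp.two Z hM.tower.inv e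
    have := hM.freeK (mul_mem hx (hM.tower.Z_le_K hn)) hf
    exact hxZ (eq_inv_of_mul_eq_one_left this ▸ inv_mem hn)
  have hfree2 : a⁻¹ * θ (θ a) ∉ Z := fun e => hfree a ha haZ (hM.act.mod_fixed Z hM.tower.inv e)
  have hcl := fun {x : P} (hx : x ∈ hM.tower.K) => mem_of_four hM.tower.Z_le_K hc ha hθa hθθa hx haZ
    (hZmap haZ) (hZmap (hZmap haZ)) (hfree a ha haZ) hfree2 (hfree _ hθa (hZmap haZ))
  have hK1 : ∀ {y x : P}, y ∈ hM.tower.K → x ∈ hM.tower.K → ∀ {u : P}, u⁻¹ * x ∈ Z → u ∈ hM.tower.K →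
      ⁅x, y⁆ = ⁅u, y⁆ := by
    intro y x hy _ u e hu
    calc ⁅x, y⁆ = ⁅u * (u⁻¹ * x), y⁆ := by rw [mul_inv_cancel_left]
      _ = ⁅u, y⁆ := by rw [hM.tower.comm_C_mul hu.1 hy, hM.tower.comm_K_one hy e, one_mul]
  have hd : ⁅θ a, a⁆ = 1 := by
    refine hM.free _ (hM.tower.comm_mem_Om hθa.1 ha) ?_
    have e : (θ (θ a))⁻¹ * (a * θ a) ∈ Z := by
      rcases hcl (mul_mem ha hθa) with e | e | e | e
      · exact absurd (by
          rw [show a⁻¹ * θ a = (a * a)⁻¹ * (a * θ a) by group]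
          exact mul_mem (inv_mem ha.2.1) e : a⁻¹ * θ a ∈ Z) (hfree a ha haZ)
      · rw [inv_mul_cancel_left] at e; exact absurd e (hZmap haZ)
      · refine absurd ?_ haZ
        have e2 : (θ a)⁻¹ * (θ a * a) = (θ a)⁻¹ * ⁅θ a, a⁆ * θ a * ((θ a)⁻¹ * (a * θ a)) := by
          simp only [commutatorElement_def]; group
        rw [inv_mul_cancel_left] at e2
        rw [e2]
        exact mul_mem (by simpa using hM.tower.normal.conj_mem _ (ha.2.2 (θ a)) (θ a)⁻¹) e
      · exact e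
    rw [map_commutatorElement, ← hK1 hθa (mul_mem ha hθa) e hθθa, hM.tower.comm_C_mul ha.1 hθa,
      commutatorElement_self, one_mul, ← commutatorElement_inv (θ a) a]
    exact inv_eq_of_sq (hM.tower.comm_mem_Om hθa.1 ha).2
  refine haZ (hM.tower.mem_Z_of_central ha fun x hx => (commutatorElement_eq_one_iff_mul_comm.1 ?_))
  rcases hcl hx with e | e | e | e
  · exact hM.tower.comm_K_one ha e
  · rw [hK1 ha hx e ha, commutatorElement_self]
  · rw [hK1 ha hx e hθa, hd]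
  · have h3 : (θ (θ a))⁻¹ * (a * θ a) ∈ Z := by
      rcases hcl (mul_mem ha hθa) with e' | e' | e' | e'
      · exact absurd (by
          rw [show a⁻¹ * θ a = (a * a)⁻¹ * (a * θ a) by group]
          exact mul_mem (inv_mem ha.2.1) e' : a⁻¹ * θ a ∈ Z) (hfree a ha haZ)
      · rw [inv_mul_cancel_left] at e'; exact absurd e' (hZmap haZ)
      · refine absurd ?_ haZ
        rw [show a * θ a = θ a * a from (commutatorElement_eq_one_iff_mul_comm.1 hd).symm,
          inv_mul_cancel_left] at e'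
        exact e'
      · exact e'
    rw [hK1 ha hx e hθθa, ← hK1 ha (mul_mem ha hθa) h3 hθθa, hM.tower.comm_C_mul ha.1 ha, hd,
      commutatorElement_self, one_mul]

/-- The central case `Z = W`. -/
theorem card_of_small (hZO : Z ≤ hM.tower.Om) (hna : ∃ a b : P, a * b ≠ b * a) : Nat.card P = 64 := by
  have h := hM.tower
  have hZ4 : Nat.card Z = 4 := by rw [le_antisymm hZO hM.tower.Om_le]; exact hM.card_om
  have hK : ∀ x : P, x ∈ hM.tower.K := fun x => hM.cent_le_K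
    (mem_centralizer_iff.2 fun z hz => (hM.om_central (hZO hz) x).symm)
  have hKtop : hM.tower.K = ⊤ := eq_top_iff.2 fun x _ => hK x
  have h16 := hM.hyp.card_le_sixteen_mul ⊤ Z le_top fun x _ => (hK x).2.1
  rw [card_top, hZ4] at h16
  have hmod := hM.card_mod ⊤ (fun a _ => mem_top _) (fun a _ e => hM.freeK (hK a) e)
  rw [card_top] at hmod
  have hne16 : Nat.card P ≠ 16 := fun e => hM.card_K_ne (by rw [hKtop, card_top, e, hZ4])
  obtain ⟨j, hj⟩ := IsPGroup.iff_card.1 (hM.hyp.two.to_subgroup (⊤ : Subgroup P))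
  rw [card_top] at hj
  have hj6 : j ≤ 6 := by
    by_contra hlt
    have : 2 ^ 7 ≤ 2 ^ j := Nat.pow_le_pow_right (by norm_num) (by omega)
    omega
  have hbig : 4 < Nat.card P := by
    have h4 : 4 ≤ Nat.card P := hZ4 ▸ Nat.le_of_dvd Nat.card_pos (card_subgroup_dvd_card Z)
    by_contra hlt
    obtain ⟨a, b, hab⟩ := hna
    have htop : Z = ⊤ := eq_top_of_card_eq _ (by omega)
    exact hab (hM.tower.comm a (htop ▸ mem_top a) b (htop ▸ mem_top b))
  interval_cases j <;> simp_all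

variable (hZO : ¬ Z ≤ hM.tower.Om)

/-- The elements of `Z` of order at most four. -/
def Q4 : Subgroup P where
  carrier := {z | z ∈ Z ∧ z * z ∈ hM.tower.Om}
  one_mem' := ⟨one_mem Z, by rw [mul_one]; exact one_mem _⟩
  mul_mem' := fun {a b} ha hb => ⟨mul_mem ha.1 hb.1, by
    rw [sq_of_comm (hM.tower.comm a ha.1 b hb.1)]; exact mul_mem ha.2 hb.2⟩
  inv_mem' := fun {a} ha => ⟨inv_mem ha.1, by rw [← mul_inv_rev]; exact inv_mem ha.2⟩

theorem mem_Q4_of (z : P) (hz : z ∈ Z) (h4 : (z * z) * (z * z) = 1) : z ∈ hM.Q4 :=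
  ⟨hz, mul_mem hz hz, h4⟩

include hZO in
theorem om_le_Sq : hM.tower.Om ≤ hM.tower.Sq := by
  obtain ⟨z, hz, hz1, hz4⟩ := hM.tower.exists_four hM.hyp hZO
  exact hM.le_of_invariant _ (fun a ha => hM.tower.Sq_inv ha) ⟨mul_mem hz hz, hz4⟩ hz1
    (hM.tower.sq_mem_Sq hz)

theorem card_Sq : 4 * Nat.card hM.tower.Sq = Nat.card Z := by
  rw [← hM.tower.card_Sq_mul_card_Om, hM.card_om, mul_comm]

include hZO in
theorem K_eq : centralizer (Z : Set P) ≤ Z := by
  haveI : hM.tower.Sq.Normal := ⟨fun x hx g => hM.tower.Sq_conj hx g⟩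
  have hOS := hM.om_le_Sq hZO
  let q := QuotientGroup.mk' hM.tower.Sq
  let g : ↥hM.tower.K →* P ⧸ hM.tower.Sq :=
    MonoidHom.mk' (fun k => q ((k : P) * k)) fun a b => by
      rw [Subgroup.coe_mul, hM.tower.mul_sq_K a.2 b.2, map_mul, map_mul,
        show q ⁅(b : P), (a : P)⁆ = 1 from (QuotientGroup.eq_one_iff _).2
          (hOS (hM.tower.comm_mem_Om b.2.1 a.2)), mul_one]
  have hker : g.ker = Z.subgroupOf hM.tower.K := by
    ext ⟨k, hk⟩
    rw [MonoidHom.mem_ker, mem_subgroupOf]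
    constructor
    · intro e
      by_contra hkZ
      exact hM.tower.sq_not_mem_Sq hM.hyp hM.card_om.ge hk hkZ ((QuotientGroup.eq_one_iff _).1 e)
    · exact fun e => (QuotientGroup.eq_one_iff _).2 (hM.tower.sq_mem_Sq e)
  have hrange : g.range ≤ Z.map q := by
    rintro _ ⟨⟨k, hk⟩, rfl⟩; exact mem_map_of_mem q hk.2.1
  have hmap : Nat.card (Z.map q) = 4 := by
    have h1 := Cores.card_map_mul_ker q Z (by rw [QuotientGroup.ker_mk']; exact hM.tower.Sq_le)
    rw [QuotientGroup.ker_mk', ← hM.card_Sq] at h1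
    exact Nat.eq_of_mul_eq_mul_right Nat.card_pos h1
  have hK : Nat.card hM.tower.K = Nat.card g.range * Nat.card Z := by
    rw [← card_mul_index g.ker, index_ker, hker,
      Nat.card_congr (subgroupOfEquivOfLe hM.tower.Z_le_K).toEquiv, mul_comm]
  have hd := card_dvd_of_le hrange
  rw [hmap] at hd
  have hm1 := hM.card_mod hM.tower.K (fun a ha => hM.tower.K_inv ha) (fun a ha e => hM.freeK ha e)
  have hm2 := hM.card_mod Z hM.tower.inv (fun a ha e => hM.freeZ ha e)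
  rw [hK, Nat.mul_mod, hm2] at hm1
  have hr1 : Nat.card g.range = 1 := by
    have hle := Nat.le_of_dvd (by norm_num) hd
    have hne := hM.card_K_ne
    rw [hK] at hne
    have hne4 : Nat.card g.range ≠ 4 := fun e => hne (by rw [e])
    have := Nat.card_pos (α := g.range)
    interval_cases (Nat.card g.range) <;> simp_all
  have hKZ : hM.tower.K = Z := (eq_of_le_of_card_ge hM.tower.Z_le_K (by rw [hK, hr1, one_mul])).symm
  exact fun x hx => hKZ ▸ hM.cent_le_K hx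

include hZO in
theorem card_Q4 : Nat.card hM.Q4 = 4 * Nat.card hM.tower.Om := by
  let f : ↥hM.Q4 →* P :=
    { toFun := fun y => (y : P) * y
      map_one' := one_mul 1
      map_mul' := fun a b => sq_of_comm (hM.tower.comm a a.2.1 b b.2.1) }
  have hle : hM.tower.Om ≤ hM.Q4 := fun w hw => ⟨hw.1, by rw [hw.2]; exact one_mem _⟩
  have hr : f.range = hM.tower.Om := by
    refine le_antisymm ?_ fun w hw => ?_
    · rintro _ ⟨y, rfl⟩; exact y.2.2
    · obtain ⟨y, hy, e⟩ := hM.om_le_Sq hZO hw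
      exact ⟨⟨y, hy, e ▸ hw⟩, e⟩
  have hk : f.ker = hM.tower.Om.subgroupOf hM.Q4 := by
    ext ⟨x, hx⟩
    exact ⟨fun e => ⟨hx.1, e⟩, fun e => e.2⟩
  rw [← card_mul_index f.ker, index_ker, hr, hk, Nat.card_congr (subgroupOfEquivOfLe hle).toEquiv,
    hM.card_om]

include hZO in
theorem fourSec_Q4 : FourSec θ Z hM.Q4 hM.tower.Om where
  le := fun w hw => ⟨hw.1, by rw [hw.2]; exact one_mem _⟩
  leZ := fun z hz => hz.1
  invM := fun a ha => ⟨hM.tower.inv a ha.1, by rw [← map_mul]; exact hM.tower.Om_inv ha.2⟩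
  invN := fun a ha => hM.tower.Om_inv ha
  card := hM.card_Q4 hZO
  free := fun a ha e => by
    haveI := hM.tower.Om_normal
    obtain ⟨n, hn, hf⟩ := hM.act.exists_fixed_coset hM.hyp.two hM.tower.Om (fun a ha => hM.tower.Om_inv ha) e
    have := hM.freeZ (mul_mem ha.1 hn.1) hf
    exact eq_inv_of_mul_eq_one_left this ▸ inv_mem hn
  free2 := fun a ha e => by
    haveI := hM.tower.Om_normal
    obtain ⟨n, hn, hf⟩ := hM.act.exists_fixed_coset hM.hyp.two hM.tower.Om (fun a ha => hM.tower.Om_inv ha)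
      (hM.act.mod_fixed _ (fun a ha => hM.tower.Om_inv ha) e)
    have := hM.freeZ (mul_mem ha.1 hn.1) hf
    exact eq_inv_of_mul_eq_one_left this ▸ inv_mem hn
  sq := fun a ha => ha.2

theorem fourSec_Z : FourSec θ Z Z hM.tower.Sq where
  le := hM.tower.Sq_le
  leZ := le_rfl
  invM := hM.tower.inv
  invN := fun a ha => hM.tower.Sq_inv ha
  card := hM.card_Sq.symm
  free := fun a ha e => by
    obtain ⟨n, hn, hf⟩ := hM.act.exists_fixed_coset hM.hyp.two hM.tower.Sq (fun a ha => hM.tower.Sq_inv ha) e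
    have := hM.freeZ (mul_mem ha (hM.tower.Sq_le hn)) hf
    exact eq_inv_of_mul_eq_one_left this ▸ inv_mem hn
  free2 := fun a ha e => by
    haveI : hM.tower.Sq.Normal := ⟨fun x hx g => hM.tower.Sq_conj hx g⟩
    obtain ⟨n, hn, hf⟩ := hM.act.exists_fixed_coset hM.hyp.two hM.tower.Sq (fun a ha => hM.tower.Sq_inv ha)
      (hM.act.mod_fixed _ (fun a ha => hM.tower.Sq_inv ha) e)
    have := hM.freeZ (mul_mem ha (hM.tower.Sq_le hn)) hf
    exact eq_inv_of_mul_eq_one_left this ▸ inv_mem hn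
  sq := fun a ha => hM.tower.sq_mem_Sq ha

/-- Commutators with `Q4` lie in `W`. -/
theorem psi_mem {z : P} (hz : z ∈ hM.Q4) (t : P) : ⁅t, z⁆ ∈ hM.tower.Om :=
  ⟨(hM.tower.Z_le_K hz.1).2.2 t, by
    rw [← hM.tower.comm_Z_mul t hz.1 hz.1, commutatorElement_eq_one_iff_mul_comm]
    exact hM.om_central hz.2 t⟩

theorem psi_mul {z s t : P} (ht : ⁅t, z⁆ ∈ hM.tower.Om) : ⁅s * t, z⁆ = ⁅t, z⁆ * ⁅s, z⁆ := by
  rw [mul_comm_left, hM.om_central ht s, mul_inv_cancel_right]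

/-- Elements congruent modulo `N` have the same commutator with `t`. -/
theorem psi_congr {N : Subgroup P} (hN : N ≤ Z) {t y z : P} (hy : y ∈ Z)
    (ht : ∀ n ∈ N, ⁅t, n⁆ = 1) (e : y⁻¹ * z ∈ N) : ⁅t, z⁆ = ⁅t, y⁆ := by
  calc ⁅t, z⁆ = ⁅t, y * (y⁻¹ * z)⁆ := by rw [mul_inv_cancel_left]
    _ = ⁅t, y⁆ := by rw [hM.tower.comm_Z_mul t hy (hN e), ht _ e, mul_one]

/-- The product of the conjugates of a singular `t` is nonsingular. -/
theorem orbit_prod {M N : Subgroup P} (F : FourSec θ Z M N)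
    {t : P} (hval : ∀ x ∈ ({t, θ t, θ (θ t)} : Set P), ∀ z ∈ M,
      ⁅x, z⁆ ∈ hM.tower.Om ∧ (z ∈ N → ⁅x, z⁆ = 1))
    {y : P} (hy : y ∈ M) (hy' : y ∉ N) (h1 : ⁅t, y⁆ = 1) (hne : ⁅t, θ y⁆ ≠ 1) :
    ⁅t * θ t * θ (θ t), y⁆ = ⁅t, θ y⁆ ∧
      ∀ z ∈ M, ⁅t * θ t * θ (θ t), z⁆ = 1 → z ∈ N := by
  have hθy := F.invM y hy
  have hθθy := F.invM _ hθy
  have hθ3 := F.invM _ hθθy
  set u := ⁅t, θ y⁆ with hu
  have hv : ∀ x ∈ ({t, θ t, θ (θ t)} : Set P), ∀ n ∈ N, ⁅x, n⁆ = 1 := fun x hx n hn =>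
    (hval x hx n (F.le hn)).2 hn
  have huO : u ∈ hM.tower.Om := (hval t (by simp) _ hθy).1
  obtain ⟨hprod, -⟩ := hM.orbit_eq huO hne
  obtain ⟨e2, e3⟩ := F.third_sq hM.tower hy hy'
  have t2 : ⁅t, θ (θ y)⁆ = u := by
    rw [← hM.psi_congr (F.le.trans F.leZ) (F.leZ hθθy) (hv t (by simp)) e2,
      hM.tower.comm_Z_mul t (F.leZ hy) (F.leZ hθy), h1, one_mul]
  have c3 : ∀ x ∈ ({t, θ t, θ (θ t)} : Set P), ⁅x, θ (θ (θ y))⁆ = ⁅x, y⁆ := fun x hx =>
    hM.psi_congr (F.le.trans F.leZ) (F.leZ hy) (hv x hx) e3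
  have a0 : ⁅θ t, y⁆ = θ u := by
    rw [← c3 _ (by simp), ← map_commutatorElement, t2]
  have a1 : ⁅θ t, θ y⁆ = 1 := by rw [← map_commutatorElement, h1, map_one]
  have a2 : ⁅θ t, θ (θ y)⁆ = θ u := by rw [← map_commutatorElement]
  have b0 : ⁅θ (θ t), y⁆ = θ (θ u) := by rw [← c3 _ (by simp), ← map_commutatorElement, a2]
  have b1 : ⁅θ (θ t), θ y⁆ = θ (θ u) := by rw [← map_commutatorElement, a0]
  have b2 : ⁅θ (θ t), θ (θ y)⁆ = 1 := by rw [← map_commutatorElement, a1, map_one]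
  have hs : ∀ z ∈ M, ⁅t * θ t * θ (θ t), z⁆ = ⁅θ (θ t), z⁆ * (⁅θ t, z⁆ * ⁅t, z⁆) := fun z hz => by
    rw [hM.psi_mul (hval _ (by simp) z hz).1, hM.psi_mul (hval _ (by simp) z hz).1]
  have hW : ∀ x : P, x ∈ hM.tower.Om → x * x = 1 := fun x hx => hx.2
  have hu1' : θ u ∈ hM.tower.Om := hM.tower.Om_inv huO
  have hu2' : θ (θ u) ∈ hM.tower.Om := hM.tower.Om_inv hu1'
  have cm : ∀ {a b : P}, a ∈ hM.tower.Om → a * b = b * a := fun {a b} ha => (hM.om_central ha b).symm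
  have s0 : ⁅t * θ t * θ (θ t), y⁆ = u := by
    rw [hs y hy, h1, mul_one, b0, a0]
    have e := hprod
    rw [mul_assoc] at e
    rw [cm hu2', eq_inv_of_mul_eq_one_right e, inv_eq_of_sq huO.2]
  have s1 : ⁅t * θ t * θ (θ t), θ y⁆ = θ u := by
    rw [hs _ hθy, b1, a1, one_mul, ← hu]
    have e : θ u * (θ (θ u) * u) = 1 := by
      rw [← cm huO, cm hu1', mul_assoc, ← cm hu1' (b := θ (θ u)), ← mul_assoc, hprod]
    rw [eq_inv_of_mul_eq_one_right e, inv_eq_of_sq hu1'.2]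
  have s2 : ⁅t * θ t * θ (θ t), θ (θ y)⁆ = θ (θ u) := by
    rw [hs _ hθθy, b2, one_mul, a2, t2]
    have e : θ (θ u) * (θ u * u) = 1 := by rw [cm hu2', cm hu1', hprod]
    rw [eq_inv_of_mul_eq_one_right e, inv_eq_of_sq hu2'.2]
  refine ⟨s0, fun z hz hz1 => ?_⟩
  have hN1 : ∀ n ∈ N, ⁅t * θ t * θ (θ t), n⁆ = 1 := fun n hn => by
    rw [hs n (F.le hn), hv _ (by simp) n hn, hv _ (by simp) n hn, hv _ (by simp) n hn, one_mul, one_mul]
  rcases F.classes hy hy' hz with e | e | e | e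
  · exact e
  · rw [hM.psi_congr (F.le.trans F.leZ) (F.leZ hy) hN1 e, s0] at hz1; exact absurd hz1 hne
  · rw [hM.psi_congr (F.le.trans F.leZ) (F.leZ hθy) hN1 e, s1] at hz1
    exact absurd (θ.injective (hz1.trans (map_one θ).symm)) hne
  · rw [hM.psi_congr (F.le.trans F.leZ) (F.leZ hθθy) hN1 e, s2] at hz1
    exact absurd (θ.injective (θ.injective (hz1.trans (by rw [map_one, map_one])))) hne

/-- Some element of an invariant subgroup acting nontrivially on a section acts without kernel. -/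
theorem exists_inj {M N : Subgroup P} (F : FourSec θ Z M N) (S : Subgroup P) (hS : ∀ a ∈ S, θ a ∈ S)
    (hval : ∀ x ∈ S, ∀ z ∈ M, ⁅x, z⁆ ∈ hM.tower.Om ∧ (z ∈ N → ⁅x, z⁆ = 1))
    {t : P} (ht : t ∈ S) {z₀ : P} (hz₀ : z₀ ∈ M) (hne : ⁅t, z₀⁆ ≠ 1) :
    ∃ s ∈ S, ∀ z ∈ M, ⁅s, z⁆ = 1 → z ∈ N := by
  by_cases hsing : ∀ z ∈ M, ⁅t, z⁆ = 1 → z ∈ N
  · exact ⟨t, ht, hsing⟩
  push Not at hsing
  obtain ⟨y, hy, h1, hy'⟩ := hsing
  have hv : ∀ n ∈ N, ⁅t, n⁆ = 1 := fun n hn => (hval t ht n (F.le hn)).2 hn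
  have hu : ⁅t, θ y⁆ ≠ 1 := by
    intro h2
    have h3 : ⁅t, θ (θ y)⁆ = 1 := by
      rw [← hM.psi_congr (F.le.trans F.leZ) (F.leZ (F.invM _ (F.invM y hy))) hv
        (F.third_sq hM.tower hy hy').1, hM.tower.comm_Z_mul t (F.leZ hy) (F.leZ (F.invM y hy)), h1, h2,
        one_mul]
    rcases F.classes hy hy' hz₀ with e | e | e | e
    · exact hne (hv _ e)
    · exact hne (by rw [hM.psi_congr (F.le.trans F.leZ) (F.leZ hy) hv e, h1])
    · exact hne (by rw [hM.psi_congr (F.le.trans F.leZ) (F.leZ (F.invM y hy)) hv e, h2])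
    · exact hne (by rw [hM.psi_congr (F.le.trans F.leZ) (F.leZ (F.invM _ (F.invM y hy))) hv e, h3])
  refine ⟨t * θ t * θ (θ t), mul_mem (mul_mem ht (hS t ht)) (hS _ (hS t ht)),
    (hM.orbit_prod F ?_ hy hy' h1 hu).2⟩
  rintro x (rfl | rfl | rfl) z hz
  exacts [hval _ ht z hz, hval _ (hS _ ht) z hz, hval _ (hS _ (hS _ ht)) z hz]

/-- An element whose square centralises `z` inverts `[t, z]`. -/
theorem psi_inverted {t z : P} (hz : z ∈ Z) (ht2 : t * t ∈ Z) : t * ⁅t, z⁆ * t⁻¹ = ⁅t, z⁆⁻¹ := by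
  calc t * ⁅t, z⁆ * t⁻¹ = ((t * t) * z * (t * t)⁻¹) * (t * z * t⁻¹)⁻¹ := by
        simp only [commutatorElement_def]; group
    _ = z * (t * z * t⁻¹)⁻¹ := by rw [hM.tower.conj_K (hM.tower.Z_le_K ht2) hz]
    _ = _ := by rw [commutatorElement_def, mul_inv_rev (t * z * t⁻¹), inv_inv]

/-- An involution of `P` outside `Z` is not normal modulo `Z` with commutators of order two. -/
theorem no_involution {y : P} (hyZ : y ∉ Z) (hy2 : y * y = 1) (hy : ∀ s : P, ⁅s, y⁆ ∈ Z)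
    (hsq : ∀ e ∈ Z, y * e * y⁻¹ = e⁻¹ → e * e = 1) : False := by
  haveI := hM.tower.Om_normal
  refine hM.hyp.no_eight hM.tower.Om (fun x hx => hx.2) hM.card_om.ge (fun e => hyZ e.1) hy2
    (fun x hx => (hM.om_central hx y).symm) fun s => ⟨hy s, hsq _ (hy s) ?_⟩
  have h1 : (⁅s, y⁆ * y) * (⁅s, y⁆ * y) = 1 := by
    rw [show (⁅s, y⁆ * y) * (⁅s, y⁆ * y) = s * (y * y) * s⁻¹ by
      simp only [commutatorElement_def]; group, hy2, mul_one, mul_inv_cancel]
  rw [mul_assoc, ← mul_assoc y] at h1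
  have h2 := eq_inv_of_mul_eq_one_right h1
  rwa [inv_eq_of_sq hy2]

include hZO in
theorem Q4_le_Sq (hbig : ¬ Z ≤ hM.Q4) : hM.Q4 ≤ hM.tower.Sq := by
  have F := hM.fourSec_Q4 hZO
  have hOS := hM.om_le_Sq hZO
  obtain ⟨x, hx, hx'⟩ : ∃ x ∈ hM.Q4, x ∉ hM.tower.Om ∧ x ∈ hM.tower.Sq := by
    obtain ⟨z, hz, hzQ⟩ := SetLike.not_le_iff_exists.1 hbig
    obtain ⟨j, hj⟩ := hM.hyp.two z
    induction j generalizing z with
    | zero =>
      rw [pow_zero, pow_one] at hj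
      exact absurd (hj ▸ one_mem hM.Q4) hzQ
    | succ j ih =>
      by_cases h2 : z * z ∈ hM.Q4
      · exact ⟨z * z, h2, fun e => hzQ ⟨hz, e⟩, hM.tower.sq_mem_Sq hz⟩
      · exact ih (z * z) (mul_mem hz hz) h2 (by rw [← pow_two, ← pow_mul, ← pow_succ']; exact hj)
  intro v hv
  have h2 := hM.tower.Sq_inv hx'.2
  have key : ∀ w ∈ hM.tower.Sq, w⁻¹ * v ∈ hM.tower.Om → v ∈ hM.tower.Sq := fun w hw e => by
    simpa using mul_mem hw (hOS e)
  rcases F.classes hx hx'.1 hv with e | e | e | e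
  · exact hOS e
  · exact key _ hx'.2 e
  · exact key _ h2 e
  · exact key _ (hM.tower.Sq_inv h2) e

include hZO in
/-- Only `Z` centralises the elements of order at most four of `Z`. -/
theorem triv {t : P} (ht : ∀ z ∈ hM.Q4, ⁅t, z⁆ = 1) : t ∈ Z := by
  by_cases hbig : Z ≤ hM.Q4
  · exact hM.K_eq hZO (mem_centralizer_iff.2 fun z hz =>
      (commutatorElement_eq_one_iff_mul_comm.1 (ht z (hbig hz))).symm)
  by_contra htZ
  haveI : Fact (Nat.Prime 2) := ⟨Nat.prime_two⟩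
  haveI := hM.tower.normal
  have hQS := hM.Q4_le_Sq hZO hbig
  have hQn : ∀ {q : P}, q ∈ hM.Q4 → ∀ g : P, g * q * g⁻¹ ∈ hM.Q4 := fun {q} hq g =>
    ⟨hM.tower.normal.conj_mem q hq.1 g, by
      rw [show g * q * g⁻¹ * (g * q * g⁻¹) = g * (q * q) * g⁻¹ by group, hM.om_central hq.2 g,
        mul_inv_cancel_right]
      exact hq.2⟩
  let S : Subgroup P :=
    { carrier := {x | (∀ z ∈ hM.Q4, ⁅x, z⁆ = 1) ∧ x * x ∈ Z ∧ ∀ s : P, ⁅s, x⁆ ∈ Z}
      one_mem' := ⟨fun z _ => commutatorElement_one_left z, by rw [mul_one]; exact one_mem Z,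
        fun s => by rw [commutatorElement_one_right]; exact one_mem Z⟩
      mul_mem' := fun {a b} ha hb => by
        refine ⟨fun z hz => ?_, ?_, fun s => ?_⟩
        · rw [mul_comm_left, hb.1 z hz, ha.1 z hz]; group
        · have e : (a * b) * (a * b) = (a * a) * (a⁻¹ * ⁅b, a⁆ * a) * (b * b) := by
            simp only [commutatorElement_def]; group
          rw [e]
          exact mul_mem (mul_mem ha.2.1 (by simpa using hM.tower.normal.conj_mem _ (ha.2.2 b) a⁻¹)) hb.2.1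
        · rw [comm_mul]
          exact mul_mem (ha.2.2 s) (hM.tower.normal.conj_mem _ (hb.2.2 s) a)
      inv_mem' := fun {a} ha => by
        refine ⟨fun z hz => ?_, by rw [← mul_inv_rev]; exact inv_mem ha.2.1, fun s => ?_⟩
        · rw [commutatorElement_eq_one_iff_mul_comm]
          exact (Commute.inv_left (commute_of_comm_eq_one (ha.1 z hz))).eq
        · have e : ⁅s, a⁻¹⁆ = a⁻¹ * ⁅s, a⁆⁻¹ * a := by simp only [commutatorElement_def]; group
          rw [e]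
          simpa using hM.tower.normal.conj_mem _ (inv_mem (ha.2.2 s)) a⁻¹ }
  have hSinv : ∀ a ∈ S, θ a ∈ S := fun a ha => by
    refine ⟨fun z hz => ?_, by rw [← map_mul]; exact hM.tower.inv _ ha.2.1, fun s => ?_⟩
    · obtain ⟨q, rfl⟩ := θ.surjective z
      rw [← map_commutatorElement,
        ha.1 q (mem_of_map_mem (fun x hx => (hM.fourSec_Q4 hZO).invM x hx) hz), map_one]
    · obtain ⟨r, rfl⟩ := θ.surjective s
      rw [← map_commutatorElement]; exact hM.tower.inv _ (ha.2.2 r)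
  -- an element of `S` outside `Z`
  obtain ⟨x, hxS, hxZ⟩ : ∃ x ∈ S, x ∉ Z := by
    let T : Subgroup P := centralizer (hM.Q4 : Set P)
    haveI hTn : T.Normal := ⟨fun x hx g => mem_centralizer_iff.2 fun q hq => by
      have := mem_centralizer_iff.1 hx (g⁻¹ * q * g) (by simpa using hQn hq g⁻¹)
      calc q * (g * x * g⁻¹) = g * ((g⁻¹ * q * g) * x) * g⁻¹ := by group
        _ = g * (x * (g⁻¹ * q * g)) * g⁻¹ := by rw [this]
        _ = _ := by group⟩
    let q := QuotientGroup.mk' Z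
    haveI hMn : (T.map q).Normal := hTn.map q (QuotientGroup.mk'_surjective Z)
    have htT : t ∈ T := mem_centralizer_iff.2 fun z hz =>
      (commutatorElement_eq_one_iff_mul_comm.1 (ht z hz)).symm
    have hne : T.map q ≠ ⊥ := fun e => htZ ((QuotientGroup.eq_one_iff t).1
      (mem_bot.1 (e ▸ mem_map_of_mem q htT : q t ∈ (⊥ : Subgroup (P ⧸ Z)))))
    obtain ⟨_, ⟨x, hx, rfl⟩, hxc, hx2⟩ := PGroup.exists_central_order_p (hM.hyp.two.to_quotient Z) hne
    refine ⟨x, ⟨fun z hz => commutatorElement_eq_one_iff_mul_comm.2 (mem_centralizer_iff.1 hx z hz).symm,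
      (QuotientGroup.eq_one_iff _).1 ?_, fun s => (QuotientGroup.eq_one_iff _).1 ?_⟩, fun e => ?_⟩
    · show q (x * x) = 1
      rw [map_mul, ← pow_two, ← hx2, pow_orderOf_eq_one]
    · show q ⁅s, x⁆ = 1
      rw [map_commutatorElement, commutatorElement_eq_one_iff_mul_comm]
      exact mem_center_iff.1 hxc (q s)
    · rw [show q x = 1 from (QuotientGroup.eq_one_iff x).2 e, orderOf_one] at hx2
      omega
  have hfixQ : ∀ a ∈ S, ∀ z ∈ Z, (z * z) * (z * z) = 1 → a * z * a⁻¹ = z := fun a ha z hz h4 => by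
    rw [(commutatorElement_eq_one_iff_mul_comm.1 (ha.1 z (hM.mem_Q4_of z hz h4)) : a * z = z * a),
      mul_inv_cancel_right]
  have hval : ∀ a ∈ S, ∀ z ∈ Z, ⁅a, z⁆ ∈ hM.tower.Om ∧ (z ∈ hM.tower.Sq → ⁅a, z⁆ = 1) := by
    intro a ha
    have hm : ∀ z ∈ Z, ⁅a, z⁆ ∈ hM.tower.Om := fun z hz =>
      ⟨(hM.tower.Z_le_K hz).2.2 a, hM.tower.sq_one_of_inverted hM.hyp (hfixQ a ha)
        ((hM.tower.Z_le_K hz).2.2 a) (hM.psi_inverted hz ha.2.1)⟩
    refine fun z hz => ⟨hm z hz, ?_⟩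
    rintro ⟨r, hr, rfl⟩
    rw [hM.tower.comm_Z_mul a hr hr, (hm r hr).2]
  obtain ⟨z₀, hz₀, hne⟩ : ∃ z ∈ Z, ⁅x, z⁆ ≠ 1 := by
    by_contra hno
    push Not at hno
    exact hxZ (hM.K_eq hZO (mem_centralizer_iff.2 fun z hz =>
      (commutatorElement_eq_one_iff_mul_comm.1 (hno z hz)).symm))
  obtain ⟨s, hs, hinj⟩ := hM.exists_inj hM.fourSec_Z S hSinv hval hxS hz₀ hne
  obtain ⟨z, hz, hzz⟩ := hinj _ hs.2.1 (by
    rw [commutatorElement_eq_one_iff_mul_comm]; group)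
  have hsz : ⁅s, z⁻¹⁆ ∈ hM.tower.Om := (hval s hs _ (inv_mem hz)).1
  obtain ⟨e, he, hee⟩ := hM.om_le_Sq hZO hsz
  have heQ : e ∈ hM.Q4 := ⟨he, hee ▸ hsz⟩
  set z' := z⁻¹ * e with hz'_def
  have hz' : z' ∈ Z := mul_mem (inv_mem hz) he
  have hflip : s⁻¹ * z' * s = s * z' * s⁻¹ := by
    calc s⁻¹ * z' * s = s⁻¹ * ((s * s) * z' * (s * s)⁻¹) * s := by
          rw [hM.tower.conj_K (hM.tower.Z_le_K hs.2.1) hz']
      _ = s * z' * s⁻¹ := by group
  have hy2 : (s * z') * (s * z') = 1 := by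
    have h1 : (s * z') * (s * z') = (s * s) * (s⁻¹ * z' * s) * z' := by group
    have h2 : s * z' * s⁻¹ = ⁅s, z'⁆ * z' := by simp only [commutatorElement_def]; group
    have h3 : ⁅s, z'⁆ = ⁅s, z⁻¹⁆ := by
      rw [hz'_def, hM.tower.comm_Z_mul s (inv_mem hz) he, (hval s hs e he).2 (hQS heQ), mul_one]
    rw [h1, hflip, h2, h3, ← hzz, mul_assoc, mul_assoc ⁅s, z⁻¹⁆, ← mul_assoc (z * z),
      hM.om_central hsz (z * z), mul_assoc, hz'_def, sq_of_comm (hM.tower.comm _ (inv_mem hz) _ he), hee,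
      ← mul_assoc (z * z), ← mul_inv_rev, mul_inv_cancel, one_mul, hsz.2]
  have hsZ : s ∉ Z := fun e' => by
    obtain ⟨a, ha, ha'⟩ : ∃ a ∈ Z, a ∉ hM.tower.Sq := by
      refine SetLike.not_le_iff_exists.1 fun hle => ?_
      have := card_le_of_le hle
      have := hM.card_Sq
      have := Nat.card_pos (α := hM.tower.Sq)
      omega
    exact ha' (hinj a ha (hM.tower.comm_K_one (hM.tower.Z_le_K ha) e'))
  have hyS : s * z' ∈ S := mul_mem hs
    ⟨fun q hq => hM.tower.comm_K_one (hM.tower.Z_le_K hq.1) hz', mul_mem hz' hz',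
      fun r => (hM.tower.Z_le_K hz').2.2 r⟩
  refine hM.no_involution (fun e' => hsZ ?_) hy2 hyS.2.2 fun e' he' hi =>
    hM.tower.sq_one_of_inverted hM.hyp (hfixQ _ hyS) he' hi
  simpa using mul_mem e' (inv_mem hz')

include hZO in
theorem sq_mem (t : P) : t * t ∈ Z :=
  hM.triv hZO fun z hz => by rw [hM.psi_mul (hM.psi_mem hz t), (hM.psi_mem hz t).2]

include hZO in
/-- For exponent at least eight every `t` outside `Z` inverts `Q4`. -/
theorem psi_eq_sq (hbig : ¬ Z ≤ hM.Q4) {t : P} (ht : t ∉ Z) {v : P} (hv : v ∈ hM.Q4) :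
    ⁅t, v⁆ = v * v := by
  have F := hM.fourSec_Q4 hZO
  have hQS := hM.Q4_le_Sq hZO hbig
  have idem : ∀ (x v : P), v ∈ hM.Q4 → ∃ r ∈ hM.Q4, r * r = ⁅x, v⁆ ∧ ⁅x, r⁆ = ⁅x, v⁆ := by
    intro x v hv
    obtain ⟨z, hz, rfl⟩ := hQS hv
    have hval := hM.psi_mem hv x
    set r := ⁅x, z⁆ with hr
    have hr2 : r * r = ⁅x, z * z⁆ := (hM.tower.comm_Z_mul x hz hz).symm
    refine ⟨r, ⟨(hM.tower.Z_le_K hz).2.2 x, hr2 ▸ hval⟩, hr2, ?_⟩
    rw [← hr2]
    calc ⁅x, r⁆ = (x * r * x⁻¹) * r⁻¹ := by simp only [commutatorElement_def]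
      _ = r⁻¹ * r⁻¹ := by rw [hr, hM.psi_inverted hz (hM.sq_mem hZO x)]
      _ = r * r := by rw [← mul_inv_rev, inv_eq_of_sq (hr2 ▸ hval.2)]
  have congrSq : ∀ {a b : P}, a ∈ hM.Q4 → b ∈ hM.Q4 → a⁻¹ * b ∈ hM.tower.Om → a * a = b * b :=
    fun {a b} ha hb e => by
      rw [show b * b = (a * (a⁻¹ * b)) * (a * (a⁻¹ * b)) by group,
        sq_of_comm (hM.tower.comm a ha.1 _ e.1), e.2, mul_one]
  have inj_eq : ∀ x : P, (∀ z ∈ hM.Q4, ⁅x, z⁆ = 1 → z ∈ hM.tower.Om) → ∀ v ∈ hM.Q4, ⁅x, v⁆ = v * v := by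
    intro x hx v hv
    obtain ⟨r, hr, hr2, hrv⟩ := idem x v hv
    have h1 : ⁅x, v⁻¹ * r⁆ = 1 := by
      have h2 : ⁅x, v⁻¹⁆ = ⁅x, v⁆⁻¹ := eq_inv_of_mul_eq_one_left (by
        rw [← hM.tower.comm_Z_mul x (inv_mem hv.1) hv.1, inv_mul_cancel, commutatorElement_one_right])
      rw [hM.tower.comm_Z_mul x (inv_mem hv.1) hr.1, hrv, h2, inv_mul_cancel]
    rw [← hr2, congrSq hv hr (hx _ (mul_mem (inv_mem hv) hr) h1)]
  by_cases hsing : ∀ z ∈ hM.Q4, ⁅t, z⁆ = 1 → z ∈ hM.tower.Om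
  · exact inj_eq t hsing v hv
  exfalso
  push Not at hsing
  obtain ⟨y, hy, h1, hy'⟩ := hsing
  have hval : ∀ x : P, ∀ z ∈ hM.Q4, ⁅x, z⁆ ∈ hM.tower.Om ∧ (z ∈ hM.tower.Om → ⁅x, z⁆ = 1) :=
    fun x z hz => ⟨hM.psi_mem hz x, fun e => commutatorElement_eq_one_iff_mul_comm.2 (hM.om_central e x)⟩
  have hN1 : ∀ n ∈ hM.tower.Om, ⁅t, n⁆ = 1 := fun n hn => (hval t n (F.le hn)).2 hn
  have hu : ⁅t, θ y⁆ ≠ 1 := by
    intro h2
    refine ht (hM.triv hZO fun z hz => ?_)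
    have h3 : ⁅t, θ (θ y)⁆ = 1 := by
      rw [← hM.psi_congr hM.tower.Om_le (F.leZ (F.invM _ (F.invM y hy))) hN1
        (F.third_sq hM.tower hy hy').1, hM.tower.comm_Z_mul t (F.leZ hy) (F.leZ (F.invM y hy)), h1, h2,
        one_mul]
    rcases F.classes hy hy' hz with e | e | e | e
    · exact hN1 _ e
    · rw [hM.psi_congr hM.tower.Om_le (F.leZ hy) hN1 e, h1]
    · rw [hM.psi_congr hM.tower.Om_le (F.leZ (F.invM y hy)) hN1 e, h2]
    · rw [hM.psi_congr hM.tower.Om_le (F.leZ (F.invM _ (F.invM y hy))) hN1 e, h3]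
  obtain ⟨hsy, hsinj⟩ := hM.orbit_prod F (fun x _ => hval x) hy hy' h1 hu
  rw [inj_eq _ hsinj y hy] at hsy
  obtain ⟨r, hr, hr2, hrv⟩ := idem t (θ y) (F.invM y hy)
  have hyr : y⁻¹ * r ∈ hM.tower.Om := by
    refine ⟨mul_mem (inv_mem hy.1) hr.1, ?_⟩
    rw [sq_of_comm (hM.tower.comm _ (inv_mem hy.1) _ hr.1), hr2, ← hsy, ← mul_inv_rev, inv_mul_cancel]
  rw [hM.psi_congr hM.tower.Om_le hy.1 hN1 hyr, h1] at hrv
  exact hu hrv.symm

include hZO in
/-- The abelian subgroup of index two. -/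
theorem split_of_index (hidx : ∀ a b : P, a ∉ Z → b ∉ Z → a * b ∈ Z)
    (hna : ∃ a b : P, a * b ≠ b * a) : Split P := by
  have F := hM.fourSec_Q4 hZO
  refine ⟨Z, fun x hx h2 => hM.om_eq ▸ (⟨hx, h2⟩ : x ∈ hM.tower.Om), hidx, ?_, ?_⟩
  · obtain ⟨t, ht⟩ : ∃ t : P, t ∉ Z := by
      by_contra hno
      push Not at hno
      obtain ⟨a, b, hab⟩ := hna
      exact hab (hM.tower.comm a (hno a) b (hno b))
    obtain ⟨n, hn, hf⟩ := hM.act.exists_fixed_coset hM.hyp.two Z hM.tower.inv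
      (hidx t⁻¹ (θ t) (fun e => ht (by simpa using inv_mem e)) (fun e => ht (mem_of_map_mem hM.tower.inv e)))
    exact ⟨t * n, fun e => ht (by simpa using mul_mem e (inv_mem hn)),
      hM.freeZ (hM.sq_mem hZO _) (by rw [map_mul, hf])⟩
  intro y hyZ hy2 w hw
  rw [← hM.om_eq] at hw
  have hval : ∀ x : P, ∀ z ∈ hM.Q4, ⁅x, z⁆ ∈ hM.tower.Om ∧ (z ∈ hM.tower.Om → ⁅x, z⁆ = 1) :=
    fun x z hz => ⟨hM.psi_mem hz x, fun e => commutatorElement_eq_one_iff_mul_comm.2 (hM.om_central e x)⟩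
  have hN1 : ∀ n ∈ hM.tower.Om, ⁅y, n⁆ = 1 := fun n hn => (hval y n (F.le hn)).2 hn
  have hinj : ∀ z ∈ hM.Q4, ⁅y, z⁆ = 1 → z ∈ hM.tower.Om := by
    by_contra hsing
    push Not at hsing
    obtain ⟨q, hq, h1, hq'⟩ := hsing
    have hu : ⁅y, θ q⁆ ≠ 1 := by
      intro h2
      refine hyZ (hM.triv hZO fun z hz => ?_)
      have h3 : ⁅y, θ (θ q)⁆ = 1 := by
        rw [← hM.psi_congr hM.tower.Om_le (F.leZ (F.invM _ (F.invM q hq))) hN1
          (F.third_sq hM.tower hq hq').1, hM.tower.comm_Z_mul y (F.leZ hq) (F.leZ (F.invM q hq)), h1, h2,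
          one_mul]
      rcases F.classes hq hq' hz with e | e | e | e
      · exact hN1 _ e
      · rw [hM.psi_congr hM.tower.Om_le (F.leZ hq) hN1 e, h1]
      · rw [hM.psi_congr hM.tower.Om_le (F.leZ (F.invM q hq)) hN1 e, h2]
      · rw [hM.psi_congr hM.tower.Om_le (F.leZ (F.invM _ (F.invM q hq))) hN1 e, h3]
    obtain ⟨hs, -⟩ := hM.orbit_prod F (fun x _ => hval x) hq hq' h1 hu
    have hθy : θ y ∉ Z := fun e => hyZ (mem_of_map_mem hM.tower.inv e)
    have hθθy : θ (θ y) ∉ Z := fun e => hθy (mem_of_map_mem hM.tower.inv e)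
    have h2 : ⁅y * θ y * θ (θ y), q⁆ = ⁅y, q⁆ := by
      have e : y * θ y * θ (θ y) = y * (θ y * θ (θ y)) := mul_assoc _ _ _
      have hz : ⁅θ y * θ (θ y), q⁆ = 1 :=
        hM.tower.comm_K_one (hM.tower.Z_le_K hq.1) (hidx _ _ hθy hθθy)
      rw [e, mul_comm_left, hz, mul_one, mul_inv_cancel, one_mul]
    rw [h2, h1] at hs
    exact hu hs.symm
  let g : ↥hM.Q4 →* P :=
    { toFun := fun q => ⁅y, (q : P)⁆
      map_one' := commutatorElement_one_right y
      map_mul' := fun a b => hM.tower.comm_Z_mul y a.2.1 b.2.1 }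
  have hk : g.ker = hM.tower.Om.subgroupOf hM.Q4 := by
    ext ⟨x, hx⟩
    exact ⟨fun e => hinj x hx e, fun e => hN1 x e⟩
  have hrange : g.range = hM.tower.Om := by
    refine eq_of_le_of_card_ge ?_ ?_
    · rintro _ ⟨q, rfl⟩; exact hM.psi_mem q.2 y
    · have h1 := card_mul_index g.ker
      rw [index_ker, hk, Nat.card_congr (subgroupOfEquivOfLe F.le).toEquiv, hM.card_Q4 hZO,
        mul_comm 4 (Nat.card hM.tower.Om)] at h1
      rw [Nat.eq_of_mul_eq_mul_left Nat.card_pos h1, hM.card_om]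
  obtain ⟨⟨s, hs⟩, hsw⟩ := (hrange.symm ▸ hw : w ∈ g.range)
  refine ⟨s, ?_⟩
  have e : s * y * s⁻¹ = ⁅y, s⁆⁻¹ * y := by simp only [commutatorElement_def]; group
  rw [e, show ⁅y, s⁆ = w from hsw, inv_eq_of_sq hw.2, hM.om_central hw y]

include hZO in
theorem main_big (hna : ∃ a b : P, a * b ≠ b * a) :
    Nat.card P = 64 ∨ Nat.card P = 128 ∨ Split P := by
  have h := hM.tower
  haveI := hM.tower.normal
  by_cases hbig : Z ≤ hM.Q4
  swap
  · refine Or.inr (Or.inr (hM.split_of_index hZO (fun a b ha hb => hM.triv hZO fun v hv => ?_) hna))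
    rw [hM.psi_mul (hM.psi_mem hv b), hM.psi_eq_sq hZO hbig ha hv, hM.psi_eq_sq hZO hbig hb hv]
    exact hv.2.2
  -- exponent four
  have hQ : hM.Q4 = Z := le_antisymm (fun z hz => hz.1) hbig
  have hZ16 : Nat.card Z = 16 := by rw [← hQ, hM.card_Q4 hZO, hM.card_om]
  have F := hM.fourSec_Q4 hZO
  obtain ⟨x, hx, hx'⟩ : ∃ x ∈ hM.Q4, x ∉ hM.tower.Om := by
    refine SetLike.not_le_iff_exists.1 fun hle => ?_
    have h1 := card_le_of_le hle
    rw [hM.card_Q4 hZO, hM.card_om] at h1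
    omega
  have hval : ∀ t z : P, z ∈ hM.Q4 → ⁅t, z⁆ ∈ hM.tower.Om := fun t z hz => hM.psi_mem hz t
  have hN1 : ∀ (t n : P), n ∈ hM.tower.Om → ⁅t, n⁆ = 1 := fun t n hn =>
    commutatorElement_eq_one_iff_mul_comm.2 (hM.om_central hn t)
  haveI : IsMulCommutative hM.tower.Om := ⟨⟨fun a b => Subtype.ext (hM.tower.comm a a.2.1 b b.2.1)⟩⟩
  let Φ : P →* ↥hM.tower.Om × ↥hM.tower.Om :=
    MonoidHom.mk' (fun t => (⟨⁅t, x⁆, hval t x hx⟩, ⟨⁅t, θ x⁆, hval t _ (F.invM x hx)⟩)) fun s t => by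
      refine Prod.ext (Subtype.ext ?_) (Subtype.ext ?_)
      · show ⁅s * t, x⁆ = ⁅s, x⁆ * ⁅t, x⁆
        rw [hM.psi_mul (hval t x hx), hM.om_central (hval s x hx)]
      · show ⁅s * t, θ x⁆ = ⁅s, θ x⁆ * ⁅t, θ x⁆
        rw [hM.psi_mul (hval t _ (F.invM x hx)), hM.om_central (hval s _ (F.invM x hx))]
  have hall : ∀ t : P, ⁅t, x⁆ = 1 → ⁅t, θ x⁆ = 1 → ∀ z ∈ hM.Q4, ⁅t, z⁆ = 1 := by
    intro t h1 h2 z hz
    have h3 : ⁅t, θ (θ x)⁆ = 1 := by
      rw [← hM.psi_congr hM.tower.Om_le (F.leZ (F.invM _ (F.invM x hx))) (hN1 t)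
        (F.third_sq hM.tower hx hx').1, hM.tower.comm_Z_mul t (F.leZ hx) (F.leZ (F.invM x hx)), h1, h2,
        one_mul]
    rcases F.classes hx hx' hz with e | e | e | e
    · exact hN1 t _ e
    · rw [hM.psi_congr hM.tower.Om_le (F.leZ hx) (hN1 t) e, h1]
    · rw [hM.psi_congr hM.tower.Om_le (F.leZ (F.invM x hx)) (hN1 t) e, h2]
    · rw [hM.psi_congr hM.tower.Om_le (F.leZ (F.invM _ (F.invM x hx))) (hN1 t) e, h3]
  have hker : Φ.ker = Z := by
    ext t
    constructor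
    · intro e
      exact hM.triv hZO (hall t (congrArg (fun p => (p.1 : P)) e) (congrArg (fun p => (p.2 : P)) e))
    · intro ht
      exact Prod.ext (Subtype.ext (hM.tower.comm_K_one (hM.tower.Z_le_K hx.1) ht))
        (Subtype.ext (hM.tower.comm_K_one (hM.tower.Z_le_K (F.invM x hx).1) ht))
  have hP : Nat.card P = 16 * Nat.card Φ.range := by
    rw [← card_mul_index Φ.ker, index_ker, hker, hZ16]
  have hd : Nat.card Φ.range ∣ 2 ^ 4 := by
    have h1 := card_subgroup_dvd_card Φ.range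
    rwa [Nat.card_prod, hM.card_om] at h1
  obtain ⟨i, hi, hr⟩ := (Nat.dvd_prime_pow Nat.prime_two).1 hd
  interval_cases i <;> simp only [pow_zero, pow_one, Nat.reducePow] at hr <;> rw [hr] at hP
  · exfalso
    obtain ⟨a, b, hab⟩ := hna
    have htop : Z = ⊤ := eq_top_of_card_eq _ (by rw [hZ16, hP, mul_one])
    exact hab (hM.tower.comm a (htop ▸ mem_top a) b (htop ▸ mem_top b))
  · refine Or.inr (Or.inr (hM.split_of_index hZO (fun a b ha hb => ?_) hna))
    have h2 : Z.index = 2 := by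
      have := card_mul_index Z
      rw [hZ16, hP] at this
      omega
    exact (mul_mem_iff_of_index_two h2).2 (iff_of_false ha hb)
  · exact Or.inl hP
  · exact Or.inr (Or.inl hP)
  · exfalso
    have hsurj : Function.Surjective Φ := MonoidHom.range_eq_top.1 (eq_top_of_card_eq _ (by
      rw [hr, Nat.card_prod, hM.card_om]))
    have hx2 : x * x ∈ hM.tower.Om := hx.2
    obtain ⟨t, ht⟩ := hsurj (⟨θ (x * x), hM.tower.Om_inv hx2⟩, ⟨θ (θ (x * x)),
      hM.tower.Om_inv (hM.tower.Om_inv hx2)⟩)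
    have t1 : ⁅t, x⁆ = θ (x * x) := congrArg (fun p => (p.1 : P)) ht
    have t2 : ⁅t, θ x⁆ = θ (θ (x * x)) := congrArg (fun p => (p.2 : P)) ht
    -- `t` acts as `z ↦ z θ(z²)`
    have hψ : ∀ z ∈ Z, ⁅t, z⁆ = θ (z * z) := by
      intro z hz
      have hz' : z ∈ hM.Q4 := hbig hz
      have key : ∀ u ∈ Z, ⁅t, u⁆ = θ (u * u) → u⁻¹ * z ∈ hM.tower.Om → ⁅t, z⁆ = θ (z * z) := by
        intro u hu e1 e2
        have e3 : z * z = u * u := by
          rw [show z * z = (u * (u⁻¹ * z)) * (u * (u⁻¹ * z)) by group,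
            sq_of_comm (hM.tower.comm u hu _ e2.1), e2.2, mul_one]
        rw [hM.psi_congr hM.tower.Om_le hu (hN1 t) e2, e1, e3]
      have t3 : ⁅t, θ (θ x)⁆ = θ (θ (θ x) * θ (θ x)) := by
        have e2 := (F.third_sq hM.tower hx hx').1
        have e3 : (x * θ x) * (x * θ x) = θ (θ x) * θ (θ x) := by
          rw [show x * θ x = θ (θ x) * ((θ (θ x))⁻¹ * (x * θ x)) by group,
            sq_of_comm (hM.tower.comm _ (F.leZ (F.invM _ (F.invM x hx))) _ e2.1), e2.2, mul_one]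
        rw [← hM.psi_congr hM.tower.Om_le (F.leZ (F.invM _ (F.invM x hx))) (hN1 t) e2,
          hM.tower.comm_Z_mul t (F.leZ hx) (F.leZ (F.invM x hx)), t1, t2, ← e3,
          sq_of_comm (hM.tower.comm x (F.leZ hx) _ (F.leZ (F.invM x hx)))]
        simp only [map_mul]
      rcases F.classes hx hx' hz' with e | e | e | e
      · rw [hN1 t z e, e.2, map_one]
      · exact key x hx.1 t1 e
      · exact key (θ x) (hM.tower.inv x hx.1) (by rw [t2, map_mul, map_mul]) e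
      · exact key _ (hM.tower.inv _ (hM.tower.inv x hx.1)) t3 e
    have htt : t * t ∈ Z := hM.sq_mem hZO t
    have htW : t * t ∈ hM.tower.Om := by
      refine ⟨htt, θ.injective ?_⟩
      rw [← hψ _ htt, map_one, commutatorElement_eq_one_iff_mul_comm]
      group
    obtain ⟨w, hw⟩ := θ.surjective (t * t)
    obtain ⟨w', hw'⟩ := θ.surjective w
    have hw'W : w' ∈ hM.tower.Om := by
      refine mem_of_map_mem (fun a ha => hM.tower.Om_inv ha) ?_
      rw [hw']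
      exact mem_of_map_mem (fun a ha => hM.tower.Om_inv ha) (by rw [hw]; exact htW)
    obtain ⟨z, hz, hzz⟩ := hM.om_le_Sq hZO hw'W
    have hflip : t⁻¹ * z * t = t * z * t⁻¹ := by
      calc t⁻¹ * z * t = t⁻¹ * ((t * t) * z * (t * t)⁻¹) * t := by
            rw [hM.tower.conj_K (hM.tower.Z_le_K htt) hz]
        _ = t * z * t⁻¹ := by group
    have hy2 : (t * z) * (t * z) = 1 := by
      have h1 : (t * z) * (t * z) = (t * t) * (t⁻¹ * z * t) * z := by group
      have h2 : t * z * t⁻¹ = ⁅t, z⁆ * z := by simp only [commutatorElement_def]; group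
      rw [h1, hflip, h2, hψ z hz, hzz, hw', mul_assoc, mul_assoc w z z, hzz]
      by_cases hw1 : w' = 1
      · rw [hw1, map_one] at hw'
        rw [← hw'] at hw
        rw [map_one] at hw
        rw [← hw, hw1, ← hw', one_mul, one_mul]
      · have e := (hM.orbit_eq hw'W hw1).1
        rw [hw', hw] at e
        rw [← hM.om_central (hw'W) w] at e
        rw [← mul_assoc]
        rw [← e]
        rw [mul_assoc, ← hM.om_central htW]
    have hyZ : t * z ∉ Z := fun e => by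
      have htZ : t ∈ Z := by simpa using mul_mem e (inv_mem hz)
      have h1 := hM.tower.comm_K_one (hM.tower.Z_le_K hx.1) htZ
      rw [t1] at h1
      exact hx' ⟨hx.1, θ.injective (h1.trans (map_one θ).symm)⟩
    have hact : ∀ e ∈ Z, ⁅t * z, e⁆ = θ (e * e) := fun e he => by
      rw [mul_comm_left, hM.tower.comm_K_one (hM.tower.Z_le_K he) hz, mul_one, mul_inv_cancel, one_mul,
        hψ e he]
    refine hM.no_involution hyZ hy2 (fun s => hM.triv hZO fun q hq => ?_) fun e he hi => ?_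
    · have hC : ∀ a b : P, ⁅a * b, q⁆ = ⁅b, q⁆ * ⁅a, q⁆ := fun a b => hM.psi_mul (hval b q hq)
      have hI : ∀ a : P, ⁅a⁻¹, q⁆ = ⁅a, q⁆ := fun a => by
        have := hC a a⁻¹
        rw [mul_inv_cancel, commutatorElement_one_left] at this
        rw [eq_inv_of_mul_eq_one_left this.symm, inv_eq_of_sq (hval a q hq).2]
      rw [show ⁅s, t * z⁆ = s * (t * z) * s⁻¹ * (t * z)⁻¹ from commutatorElement_def s (t * z), hC, hC, hC,
        hI, hI, ← mul_assoc ⁅s, q⁆, hM.om_central (hval (t * z) q hq) ⁅s, q⁆, mul_assoc ⁅t * z, q⁆,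
        (hval s q hq).2, mul_one, (hval (t * z) q hq).2]
    · have h1 := hact e he
      rw [commutatorElement_def, hi, ← mul_inv_rev] at h1
      refine hM.free (e * e) (hbig he).2 ?_
      rw [← h1, inv_eq_of_sq (hbig he).2.2]

end Moved

/-- The summary. -/
theorem moved_case (hP : Hyp P) (hθ : OddAct θ 3) (hmove : ∃ u ∈ centralTwo P, θ u ≠ u)
    (hna : ∃ a b : P, a * b ≠ b * a) : Nat.card P = 64 ∨ Nat.card P = 128 ∨ Split P := by
  obtain ⟨u, hu, hmu⟩ := hmove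
  have hWn : (centralTwo P).Normal :=
    ⟨fun x hx g => by rw [mem_center_iff.1 hx.1 g, mul_inv_cancel_right]; exact hx⟩
  have hWc : ∀ a ∈ centralTwo P, ∀ b ∈ centralTwo P, a * b = b * a :=
    fun a _ b hb => mem_center_iff.1 hb.1 a
  obtain ⟨Z, hWZ, h⟩ := exists_tower θ (centralTwo P) hWn hWc (fun a ha => centralTwo_inv θ ha)
  have hle : centralTwo P ≤ h.Om := fun x hx => ⟨hWZ hx, hx.2⟩
  have h4 : Nat.card (centralTwo P) ≤ 4 := hP.small _ hWn hWc fun a ha => ha.2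
  obtain ⟨j, hj⟩ := IsPGroup.iff_card.1 (hP.two.to_subgroup (centralTwo P))
  have hθu : θ u ∈ centralTwo P := centralTwo_inv θ hu
  have hW4 : Nat.card (centralTwo P) = 4 := by
    have hu1 : u ≠ 1 := fun e => hmu (by rw [e, map_one])
    rcases j with _ | _ | _ | j
    · exact absurd (mem_bot.1 (card_eq_one.1 (by rw [hj, pow_zero]) ▸ hu)) hu1
    · refine absurd ?_ hmu
      exact (eq_or_eq_of_card_two (by rw [hj]; norm_num) hu hu1 hθu).resolve_left
        fun e => hu1 (θ.injective (e.trans (map_one θ).symm))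
    · rw [hj]; norm_num
    · have : 2 ^ 3 ≤ 2 ^ (j + 1 + 1 + 1) := Nat.pow_le_pow_right (by norm_num) (by omega)
      omega
  have hOm : h.Om = centralTwo P := (eq_of_le_of_card_ge hle (by rw [hW4]; exact h.card_Om_le hP)).symm
  have hfree : ∀ w ∈ h.Om, θ w = w → w = 1 := by
    intro w hw hwf
    rw [hOm] at hw
    by_contra hw1
    refine hmu ?_
    let F : Subgroup P := centralTwo P ⊓ fixSub θ
    have hd : Nat.card F ∣ 4 := hW4 ▸ card_dvd_of_le inf_le_left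
    have hmod := hθ.card_modEq_fixed (centralTwo P : Set P) (fun a ha => centralTwo_inv θ ha)
    have hF : Nat.card {x : (centralTwo P : Set P) // θ x = x} = Nat.card F := Nat.card_congr
      { toFun := fun x => ⟨x.1, x.1.2, x.2⟩
        invFun := fun x => ⟨⟨x.1, x.2.1⟩, x.2.2⟩
        left_inv := fun x => rfl
        right_inv := fun x => rfl }
    rw [hF] at hmod
    change Nat.card (centralTwo P) % 3 = Nat.card F % 3 at hmod
    rw [hW4] at hmod
    haveI : Nontrivial F := ⟨⟨w, hw, hwf⟩, 1, fun e => hw1 (congrArg Subtype.val e)⟩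
    have h2 : 1 < Nat.card F := Finite.one_lt_card
    have hle' := Nat.le_of_dvd (by norm_num) hd
    have hF4 : Nat.card F = 4 := by
      interval_cases hc : Nat.card F <;> omega
    have heq : F = centralTwo P := eq_of_le_of_card_ge inf_le_left (by rw [hF4, hW4])
    have huF : u ∈ F := heq.symm ▸ hu
    exact huF.2
  have hM : Moved θ Z := ⟨hP, hθ, h, hOm, by rw [hOm, hW4], hfree⟩
  by_cases hZO : Z ≤ hM.tower.Om
  · exact Or.inl (hM.card_of_small hZO hna)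
  · exact hM.main_big hZO hna

end Cfsg.Agent.NormalRankTwoOdd
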